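import Groth.Agent.AlgSpLimDesc.Chart
import Groth.Agent.AlgSpPts.Qc
import Groth.Agent.AlgSpPts.Descend
import Groth.Agent.AlgStLib.RepSheaf
import Groth.Prelude.Def_AlgSpSub

/-!
Limits of algebraic spaces with affine transition maps are algebraic spaces with affine projections;
reducedness and nonemptiness pass to the limit.
-/

set_option autoImplicit false
set_option backward.isDefEq.respectTransparency.types false

universe u

open CategoryTheory CategoryTheory.Limits AlgebraicGeometry AlgSp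
open Groth.Agent.AlgSpLib Groth.Agent.AlgSpPts

attribute [local instance] IsCofiltered.isConnected

namespace Groth.Agent.AlgSpLimDesc

variable {S : Scheme.{u}} {I : Type u} [SmallCategory I] [IsCofiltered I] {D : I ⥤ Sp S}
  {c : Cone D}

/-- The projections of a limit with affine transition maps are affine. -/
theorem isAffineMor_π (hDa : ∀ (i j : I) (φ : i ⟶ j), IsAffineMor (D.map φ)) (hc : IsLimit c) (i : I) :
    IsAffineMor (c.π.app i) := by
  intro Z hZ g
  obtain ⟨F, cF, p, hF, -, ⟨hlim⟩, -, -, θ, hθ⟩ := exists_chartSystem hDa hc hZ g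
  haveI : ∀ j, IsAffine ((F ⋙ Over.forget S).obj j) := hF
  exact ⟨cF.pt, _, θ, hθ.flip, Scheme.isAffine_of_isLimit _ hlim⟩

/-- A sheaf with a representable morphism to an algebraic space is an algebraic space. -/
theorem isAlgSpace_of_representable {F G : Sp S} (hG : IsAlgSpace G) {f : F ⟶ G} (hf : Representable f) :
    IsAlgSpace F :=
  AlgStLib.isAlgSpace_of_fibres hG f fun _ s => by
    obtain ⟨W, p, fst, sq⟩ := hf s
    exact ⟨_, fst, (yon S).map p, IsAlgSpace.yon_obj W, sq⟩

/-- A limit with affine transition maps is an algebraic space. -/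
theorem isAlgSpace_pt (hD : ∀ i, IsAlgSpace (D.obj i))
    (hDa : ∀ (i j : I) (φ : i ⟶ j), IsAffineMor (D.map φ)) (hc : IsLimit c) : IsAlgSpace c.pt := by
  obtain ⟨i⟩ := IsCofiltered.nonempty (C := I)
  exact isAlgSpace_of_representable (hD i) (repWith_isAffineHom_of_isAffineMor (isAffineMor_π hDa hc i)).1

/-- Schemes etale over a reduced algebraic space are reduced. -/
theorem isReduced_of_etale_chart {X : Sp S} (hX : IsAlgSpace X) (h : IsReducedSp X) {V : Over S}
    {b : (yon S).obj V ⟶ X} (hb : RepWith @Etale b) : IsReduced V.left := by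
  obtain ⟨U, a, ha, has, hU⟩ := h
  obtain ⟨W, p, q, sq⟩ := exists_isPullback (hX.representable_from_yon a) b
  have : Etale p.left := prop_snd sq.flip hb
  have : Etale q.left := prop_snd sq ha
  have : Surjective q.left := prop_snd sq has
  have : AlgebraicGeometry.IsReduced U.left := hU
  have : AlgebraicGeometry.IsReduced W.left := EtSite.ReducedFLC.isReduced_of_etale p.left
  exact GeomFibre.isReduced_of_flat_surjective q.left

/-- A limit of reduced affine schemes is reduced. -/
theorem isReduced_of_isLimit_of_isAffine {J : Type u} [SmallCategory J] [IsCofiltered J]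
    {D' : J ⥤ Scheme.{u}} [∀ j, IsAffine (D'.obj j)] [∀ j, IsReduced (D'.obj j)] {c' : Cone D'}
    (hc' : IsLimit c') : IsReduced c'.pt := by
  haveI : IsAffine c'.pt := Scheme.isAffine_of_isLimit _ hc'
  haveI : _root_.IsReduced Γ(c'.pt, ⊤) := by
    refine ⟨fun x hx => ?_⟩
    obtain ⟨n, hn⟩ := hx
    obtain ⟨i, t, rfl⟩ := exists_appTop_π_eq_of_isAffine_of_isLimit D' c' hc' x
    rw [← map_pow] at hn
    obtain ⟨j, φ, hj⟩ := exists_appTop_map_eq_zero_of_isAffine_of_isLimit D' c' hc' i (t ^ n) hn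
    rw [map_pow] at hj
    rw [← c'.w φ, Scheme.Hom.comp_appTop, CommRingCat.comp_apply, IsNilpotent.eq_zero (x := (D'.map φ).appTop t) ⟨n, hj⟩, map_zero]
  exact isReduced_of_isAffine_isReduced c'.pt

/-- Reducedness passes to limits with affine transition maps. -/
theorem isReducedSp_pt (hD : ∀ i, IsAlgSpace (D.obj i))
    (hDa : ∀ (i j : I) (φ : i ⟶ j), IsAffineMor (D.map φ)) (hc : IsLimit c)
    (hred : ∀ i, IsReducedSp (D.obj i)) : IsReducedSp c.pt := by
  obtain ⟨i₀⟩ := IsCofiltered.nonempty (C := I)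
  obtain ⟨U, u, hu, hus⟩ := (hD i₀).atlas
  obtain ⟨W, w, a, sq⟩ := (repWith_isAffineHom_of_isAffineMor (isAffineMor_π hDa hc i₀)).1 u
  refine ⟨W, a, repWith_baseChange sq.flip hu, repWith_baseChange sq.flip hus, ?_⟩
  let 𝒱 := U.left.affineCover
  haveI : ∀ k, IsReduced ((𝒱.pullback₁ w.left).X k) := fun k => by
    let A : Over S := Over.mk (𝒱.f k ≫ U.hom)
    let e : A ⟶ U := Over.homMk (𝒱.f k) rfl
    have hA : IsAffine A.left := inferInstanceAs (IsAffine (𝒱.X k))
    obtain ⟨F, cF, p, hF, hp, ⟨hlim⟩, hio, hsq, θ, hθ⟩ := exists_chartSystem hDa hc hA ((yon S).map e ≫ u)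
    have he : RepWith @Etale ((yon S).map e ≫ u) := repWith_yon_comp e (inferInstanceAs (Etale (𝒱.f k))) hu
    haveI : ∀ j, IsAffine ((F ⋙ Over.forget S).obj j) := hF
    haveI : ∀ j, IsReduced ((F ⋙ Over.forget S).obj j) := fun j => by
      obtain ⟨θj, hθj⟩ := hsq j
      exact isReduced_of_etale_chart (hD j.left) (hred j.left) (repWith_baseChange hθj he)
    haveI : IsReduced ((Over.forget S).obj cF.pt) := isReduced_of_isLimit_of_isAffine hlim
    obtain ⟨E, e₁, e₂, sqE⟩ : ∃ (E : Over S) (e₁ : E ⟶ W) (e₂ : E ⟶ A), IsPullback e₁ e₂ w e :=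
      ⟨_, _, _, IsPullback.of_hasPullback w e⟩
    let i₁ := (hθ.flip).isoIsPullback _ _ ((yon_isPullback sqE).flip.paste_vert sq.flip).flip
    let i₂ : cF.pt ≅ E := (Functor.FullyFaithful.ofFullyFaithful (yon S)).preimageIso i₁
    have i₃ : E.left ≅ pullback w.left (𝒱.f k) := (left_isPullback sqE).isoPullback
    exact isReduced_of_isOpenImmersion (((Over.forget S).mapIso i₂).trans i₃).inv
  exact IsReduced.of_openCover _ (𝒱.pullback₁ w.left)

/-- A limit of nonempty quasi-compact spaces with affine transition maps is nonempty. -/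
theorem nonempty_points_pt (hD : ∀ i, IsAlgSpace (D.obj i))
    (hDa : ∀ (i j : I) (φ : i ⟶ j), IsAffineMor (D.map φ)) (hc : IsLimit c)
    (hqc : ∀ i, IsQuasiCompactSp (D.obj i)) (hne : ∀ i, Nonempty (Points (D.obj i))) :
    Nonempty (Points c.pt) := by
  obtain ⟨i₀⟩ := IsCofiltered.nonempty (C := I)
  obtain ⟨V, v, hV, hv, hvs⟩ := (isQuasiCompactSp_iff_affine (hD i₀)).1 (hqc i₀)
  obtain ⟨F, cF, p, hF, -, ⟨hlim⟩, -, hsq, θ, -⟩ := exists_chartSystem hDa hc hV v
  haveI : ∀ j, IsAffine ((F ⋙ Over.forget S).obj j) := hF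
  haveI : ∀ j, Nonempty ((F ⋙ Over.forget S).obj j) := fun j => by
    obtain ⟨θj, hθj⟩ := hsq j
    obtain ⟨x⟩ := hne j.left
    obtain ⟨t, -⟩ := surjective_ofPt (repWith_baseChange hθj hvs) x
    exact ⟨t⟩
  obtain ⟨t⟩ := Scheme.nonempty_of_isLimit (F ⋙ Over.forget S) _ hlim
  exact ⟨Points.ofPt θ t⟩

/-- A limit of closed immersions is a closed immersion. -/
theorem repWith_isClosedImmersion_limMap {DX DY : I ⥤ Sp S} (τ : DX ⟶ DY)
    (hτ : ∀ i, RepWith @IsClosedImmersion (τ.app i)) {cX : Cone DX} (hcX : IsLimit cX) {cY : Cone DY}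
    (hcY : IsLimit cY) (g : cX.pt ⟶ cY.pt) (hg : ∀ i, g ≫ cY.π.app i = cX.π.app i ≫ τ.app i) :
    RepWith @IsClosedImmersion g := by
  refine repWith_of_affine_targets fun T hT y => ?_
  haveI := hT
  have hsq : ∀ i, ∃ (Q : Over S) (p : Q ⟶ T) (θ : (yon S).obj Q ⟶ DX.obj i),
      IsPullback θ ((yon S).map p) (τ.app i) (y ≫ cY.π.app i) ∧ IsClosedImmersion p.left := fun i => by
    obtain ⟨Q, p, θ, h⟩ := (hτ i).1 (y ≫ cY.π.app i)
    exact ⟨Q, p, θ, h, (hτ i).2 _ θ p h⟩
  choose Q p θ sq hp using hsq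
  have hw : ∀ {i j : I} (φ : i ⟶ j), (θ i ≫ DX.map φ) ≫ τ.app j = (yon S).map (p i) ≫ y ≫ cY.π.app j := by
    intro i j φ
    rw [Category.assoc, τ.naturality, ← Category.assoc, (sq i).w, Category.assoc, Category.assoc, cY.w]
  let m : ∀ {i j : I}, (i ⟶ j) → (Q i ⟶ Q j) := fun {i j} φ => (yon S).preimage ((sq j).lift _ _ (hw φ))
  have hm₁ : ∀ {i j : I} (φ : i ⟶ j), (yon S).map (m φ) ≫ θ j = θ i ≫ DX.map φ := fun φ => by simp [m]
  have hm₂ : ∀ {i j : I} (φ : i ⟶ j), (yon S).map (m φ) ≫ (yon S).map (p j) = (yon S).map (p i) :=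
    fun φ => by simp [m]
  let F : I ⥤ Over S :=
    { obj := Q
      map := m
      map_id := fun i => (yon S).map_injective ((sq i).hom_ext (by simp [hm₁]) (by simp [hm₂]))
      map_comp := fun {i j k} a b => (yon S).map_injective ((sq k).hom_ext
        (by simp [hm₁, reassoc_of% (hm₁ a)]) (by simp [hm₂])) }
  haveI : ∀ j, IsAffine ((F ⋙ Over.forget S).obj j) := fun j => by
    haveI : IsClosedImmersion (p j).left := hp j
    haveI : IsAffineHom (p j).left := @IsFinite.toIsAffineHom _ _ _ (inferInstance)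
    exact @isAffine_of_isAffineHom _ _ (p j).left ‹_› inferInstance
  haveI : ∀ {j k : I} (a : j ⟶ k), IsAffineHom ((F ⋙ Over.forget S).map a) := fun a => inferInstance
  haveI : HasLimit (F ⋙ Over.forget S) := LimLib.hasLimit_of_isAffineHom _
  haveI : HasLimit F := hasLimit_of_created F (Over.forget S)
  let hL := isLimitOfPreserves (yon S) (limit.isLimit F)
  obtain ⟨i₀⟩ := IsCofiltered.nonempty (C := I)
  let q : limit F ⟶ T := limit.π F i₀ ≫ p i₀
  have hq : ∀ i, limit.π F i ≫ p i = q := by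
    have key : ∀ {i j : I} (φ : i ⟶ j), F.map φ ≫ p j = p i := fun φ =>
      (yon S).map_injective (((yon S).map_comp _ _).trans (hm₂ φ))
    intro i
    obtain ⟨k, a, b, -⟩ := IsCofilteredOrEmpty.cone_objs i i₀
    simp only [q, ← limit.w F a, ← limit.w F b, Category.assoc, key]
  let cθ : Cone DX :=
    { pt := (yon S).obj (limit F)
      π :=
        { app := fun i => (yon S).map (limit.π F i) ≫ θ i
          naturality := fun i j φ => (Category.id_comp _).trans (by
            rw [Category.assoc, ← hm₁ φ, ← Category.assoc, ← Functor.map_comp,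
              show limit.π F i ≫ m φ = limit.π F j from limit.w F φ]) } }
  let fst := hcX.lift cθ
  have hfst : ∀ i, fst ≫ cX.π.app i = (yon S).map (limit.π F i) ≫ θ i := fun i => hcX.fac cθ i
  have w : fst ≫ g = (yon S).map q ≫ y := hcY.hom_ext fun i => by
    rw [Category.assoc, hg, ← Category.assoc, hfst, Category.assoc, (sq i).w, ← Category.assoc,
      ← Functor.map_comp, hq, Category.assoc]
  refine ⟨limit F, q, fst, IsPullback.of_isLimit' ⟨w⟩ (PullbackCone.IsLimit.mk w
    (fun s => hL.lift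
      { pt := s.pt
        π :=
          { app := fun i => (sq i).lift (s.fst ≫ cX.π.app i) s.snd (by rw [Category.assoc, ← hg, s.condition_assoc])
            naturality := fun i j φ => (sq j).hom_ext (by simp [F, hm₁]) (by simp [F, hm₂]) } })
    (fun s => hcX.hom_ext fun i => ?_) (fun s => ?_) (fun s l h₁ h₂ => hL.hom_ext fun i => ?_)), ?_⟩
  · rw [Category.assoc, hfst, ← Category.assoc]
    exact (congrArg (· ≫ θ i) (hL.fac _ i)).trans ((sq i).lift_fst _ _ _)
  · rw [← hq i₀, Functor.map_comp, ← Category.assoc]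
    exact (congrArg (· ≫ (yon S).map (p i₀)) (hL.fac _ i₀)).trans ((sq i₀).lift_snd _ _ _)
  · rw [hL.fac]
    apply (sq i).hom_ext
    · refine Eq.trans ?_ ((sq i).lift_fst _ _ _).symm
      rw [← h₁, Category.assoc, Category.assoc, hfst]
      rfl
    · refine Eq.trans ?_ ((sq i).lift_snd _ _ _).symm
      rw [← h₂, Category.assoc, ← hq i, Functor.map_comp]
      rfl
  · let cS := (Over.forget S).mapCone (limit.cone F)
    have hS : IsLimit cS := isLimitOfPreserves (Over.forget S) (limit.isLimit F)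
    haveI : IsAffine cS.pt := Scheme.isAffine_of_isLimit _ hS
    haveI : IsAffine (limit F).left := Scheme.isAffine_of_isLimit _ hS
    refine IsClosedImmersion.of_surjective_of_isAffine _ fun x => ?_
    obtain ⟨i, t, rfl⟩ := exists_appTop_π_eq_of_isAffine_of_isLimit _ cS hS x
    haveI := hp i
    obtain ⟨z, rfl⟩ := (IsClosedImmersion.isAffine_surjective_of_isAffine (p i).left).2 t
    refine ⟨z, ?_⟩
    rw [← hq i, Over.comp_left, Scheme.Hom.comp_appTop, CommRingCat.comp_apply]
    rfl

end Groth.Agent.AlgSpLimDesc
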