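import Groth.Agent.AlgSpLimDesc.ClosedStage

/-!
An immersion into a limit of affine schemes, of finite type over a stage, is an immersion into a
stage.
-/

set_option autoImplicit false
set_option backward.isDefEq.respectTransparency.types false

universe u

open CategoryTheory CategoryTheory.Limits AlgebraicGeometry

namespace Groth.Agent.AlgSpLimDesc

/-- Immersions of finite type into a limit of affine schemes are immersions into a stage. -/
theorem exists_stage_comp_isImmersion {J : Type u} [SmallCategory J] [IsCofiltered J]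
    {D : J ⥤ Scheme.{u}} [∀ j, IsAffine (D.obj j)] {c : Cone D} (hc : IsLimit c) {P : Scheme.{u}}
    [CompactSpace P] (e : P ⟶ c.pt) [IsImmersion e] {o : J} (hft : LocallyOfFiniteType (e ≫ c.π.app o)) :
    ∃ (j : J) (_ : j ⟶ o), ∀ (k : J) (_ : k ⟶ j), IsImmersion (e ≫ c.π.app k) := by
  classical
  haveI : ∀ {a b : J} (f : a ⟶ b), IsAffineHom (D.map f) := fun f => inferInstance
  haveI : IsAffine c.pt := Scheme.isAffine_of_isLimit _ hc
  -- a quasi-compact open containing the image in which it is closed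
  have hcov : Set.range e ⊆ ⋃ A : {A : c.pt.affineOpens // A.1 ≤ e.coborderRange}, (A.1.1 : Set c.pt) := by
    rintro _ ⟨x, rfl⟩
    have hx : e x ∈ e.coborderRange := subset_coborder ⟨x, rfl⟩
    obtain ⟨A, hA, hxA, hAle⟩ := exists_isAffineOpen_mem_and_subset hx
    exact Set.mem_iUnion.2 ⟨⟨⟨A, hA⟩, hAle⟩, hxA⟩
  obtain ⟨s, hs⟩ := (isCompact_range e.continuous).elim_finite_subcover _ (fun A => A.1.1.isOpen) hcov
  let U : c.pt.Opens := ⨆ A : s, A.1.1.1
  have hUc : IsCompact (U : Set c.pt) := by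
    simp only [U, TopologicalSpace.Opens.coe_iSup]
    exact isCompact_iUnion fun A => A.1.1.2.isCompact
  have hUle : U ≤ e.coborderRange := iSup_le fun A => A.1.2
  have hUr : ∀ x, e x ∈ U := fun x => by
    obtain ⟨A, hA, hxA⟩ := Set.mem_iUnion₂.1 (hs ⟨x, rfl⟩)
    exact TopologicalSpace.Opens.mem_iSup.2 ⟨⟨A, hA⟩, hxA⟩
  obtain ⟨i, O', hO'c, hO'⟩ := exists_preimage_eq D c hc U hUc
  obtain ⟨j, a, b, -⟩ := IsCofilteredOrEmpty.cone_objs i o
  let O : (D.obj j).Opens := D.map a ⁻¹ᵁ O'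
  haveI : IsAffineHom (D.map a) := inferInstance
  have hOc : IsCompact (O : Set (D.obj j)) := (D.map a).isCompact_preimage hO'c
  have hO : c.π.app j ⁻¹ᵁ O = U := by
    show c.π.app j ⁻¹ᵁ D.map a ⁻¹ᵁ O' = U
    rw [← Scheme.Hom.comp_preimage, c.w, hO']
  -- finitely many affines covering it
  obtain ⟨t, ht⟩ := hOc.elim_finite_subcover (fun A : {A : (D.obj j).affineOpens // A.1 ≤ O} => (A.1.1 : Set (D.obj j)))
    (fun A => A.1.1.isOpen) (fun x hx => by
      obtain ⟨A, hA, hxA, hAle⟩ := exists_isAffineOpen_mem_and_subset (U := O) hx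
      exact Set.mem_iUnion.2 ⟨⟨⟨A, hA⟩, hAle⟩, hxA⟩)
  have key : ∀ A : t, ∃ (l : J) (φ : l ⟶ j), ∀ (k : J) (ψ : k ⟶ l),
      IsClosedImmersion ((e ≫ c.π.app k) ∣_ (D.map (ψ ≫ φ) ⁻¹ᵁ A.1.1.1)) := fun A => by
    let W := c.π.app j ⁻¹ᵁ A.1.1.1
    have hW : W ≤ e.coborderRange := le_trans (Scheme.Hom.preimage_mono _ A.1.2) (hO.le.trans hUle)
    have hcW : IsClosedImmersion (e ∣_ W) := by
      have hp : IsPreimmersion (e ∣_ W) := IsZariskiLocalAtTarget.restrict (inferInstanceAs (IsPreimmersion e)) W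
      refine IsClosedImmersion.of_isPreimmersion _ ?_
      have h1 : Set.range (e ∣_ W) = W.ι ⁻¹' closure (Set.range e) := by
        have h2 : Set.range (e ∣_ W) = W.ι ⁻¹' Set.range e := by
          ext w
          constructor
          · rintro ⟨x, rfl⟩
            exact ⟨(e ⁻¹ᵁ W).ι x, by rw [← Scheme.Hom.comp_apply, ← morphismRestrict_ι, Scheme.Hom.comp_apply]⟩
          · rintro ⟨x, hx⟩
            refine ⟨⟨x, show e x ∈ W by rw [hx]; exact w.2⟩, W.ι.injective ?_⟩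
            rw [← Scheme.Hom.comp_apply, morphismRestrict_ι, Scheme.Hom.comp_apply]
            exact hx
        rw [h2]
        ext w
        refine ⟨fun hw => subset_closure hw, fun hw => ?_⟩
        show W.ι w ∈ Set.range e
        rw [← closure_inter_coborder (s := Set.range e)]
        exact ⟨hw, hW w.2⟩
      rw [h1]
      exact isClosed_closure.preimage W.ι.continuous
    haveI : ∀ k : Over j, IsAffine ((opensDiagram D j A.1.1.1).obj k) := fun k =>
      A.1.1.2.preimage (D.map k.hom)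
    obtain ⟨l, -, hl⟩ := @exists_stage_comp_isClosedImmersion _ _ _ (opensDiagram D j A.1.1.1) _ _
      (isLimitOpensCone D c hc j A.1.1.1) (e ⁻¹ᵁ W) (e ∣_ W) hcW (Over.mk (𝟙 j)) (by
        have hfj : LocallyOfFiniteType (e ≫ c.π.app j) := by
          rw [← c.w b, ← Category.assoc] at hft
          exact @locallyOfFiniteType_of_comp _ _ _ _ _ hft
        have h2 : LocallyOfFiniteType ((e ∣_ W) ≫ (c.π.app j).resLE (D.map (𝟙 j) ⁻¹ᵁ A.1.1.1) W
            (by rw [← Scheme.Hom.comp_preimage, c.w]) ≫ (D.map (𝟙 j) ⁻¹ᵁ A.1.1.1).ι) := by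
          rw [Scheme.Hom.resLE_comp_ι, morphismRestrict_ι_assoc]
          exact MorphismProperty.comp_mem @LocallyOfFiniteType.{u} _ _ inferInstance hfj
        rw [← Category.assoc] at h2
        exact @locallyOfFiniteType_of_comp _ _ _ _ _ h2)
    refine ⟨l.left, l.hom, fun k ψ => ?_⟩
    have h3 : IsClosedImmersion ((e ∣_ W) ≫ (c.π.app k).resLE (D.map (ψ ≫ l.hom) ⁻¹ᵁ A.1.1.1) W
        (by rw [← Scheme.Hom.comp_preimage, c.w])) :=
      hl (Over.mk (ψ ≫ l.hom)) (Over.homMk ψ)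
    have e1 : c.π.app k ⁻¹ᵁ (D.map (ψ ≫ l.hom) ⁻¹ᵁ A.1.1.1) = W := by
      rw [← Scheme.Hom.comp_preimage, c.w]
    have e2 : IsClosedImmersion ((e ≫ c.π.app k).resLE (D.map (ψ ≫ l.hom) ⁻¹ᵁ A.1.1.1) (e ⁻¹ᵁ W)
        (by rw [Scheme.Hom.comp_preimage, e1])) := by
      convert h3 using 1
      rw [← cancel_mono (D.map (ψ ≫ l.hom) ⁻¹ᵁ A.1.1.1).ι, Scheme.Hom.resLE_comp_ι, Category.assoc,
        Scheme.Hom.resLE_comp_ι, morphismRestrict_ι_assoc]
    have e3 : (e ≫ c.π.app k) ⁻¹ᵁ (D.map (ψ ≫ l.hom) ⁻¹ᵁ A.1.1.1) = e ⁻¹ᵁ W := by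
      rw [Scheme.Hom.comp_preimage, e1]
    rw [← Scheme.Hom.resLE_eq_morphismRestrict]
    convert e2
  choose l φ hl using key
  obtain ⟨m, θ, ψ, hθ⟩ := IsCofiltered.wideCospan φ
  refine ⟨m, θ ≫ b, fun k χ => ?_⟩
  let f := e ≫ c.π.app k
  let Ok : (D.obj k).Opens := D.map (χ ≫ θ) ⁻¹ᵁ O
  have hOk : f ⁻¹ᵁ Ok = ⊤ := by
    rw [eq_top_iff]
    intro x _
    show e x ∈ c.π.app k ⁻¹ᵁ D.map (χ ≫ θ) ⁻¹ᵁ O
    rw [← Scheme.Hom.comp_preimage, c.w, hO]
    exact hUr x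
  have hOk' : IsClosedImmersion (f ∣_ Ok) := by
    refine IsZariskiLocalAtTarget.of_iSup_eq_top (P := @IsClosedImmersion.{u})
      (fun A : t => Ok.ι ⁻¹ᵁ (D.map (χ ≫ θ) ⁻¹ᵁ A.1.1.1)) ?_ fun A => ?_
    · rw [eq_top_iff]
      intro x _
      obtain ⟨A, hA, hxA⟩ := Set.mem_iUnion₂.1 (ht x.2)
      exact TopologicalSpace.Opens.mem_iSup.2 ⟨⟨A, hA⟩, hxA⟩
    · refine (MorphismProperty.arrow_mk_iso_iff @IsClosedImmersion.{u} (morphismRestrictRestrict f Ok _)).2 ?_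
      have h := hl A k (χ ≫ ψ A)
      rw [Category.assoc, hθ A] at h
      have e4 : Ok.ι ''ᵁ Ok.ι ⁻¹ᵁ (D.map (χ ≫ θ) ⁻¹ᵁ A.1.1.1) = D.map (χ ≫ θ) ⁻¹ᵁ A.1.1.1 := by
        rw [Scheme.Hom.image_preimage_eq_opensRange_inf, Scheme.Opens.opensRange_ι]
        exact inf_eq_right.2 (Scheme.Hom.preimage_mono _ A.1.2)
      rw [e4]
      exact h
  haveI := hOk'
  haveI : Surjective (f ⁻¹ᵁ Ok).ι := ⟨fun x => ⟨⟨x, by rw [hOk]; trivial⟩, rfl⟩⟩
  haveI : IsIso (f ⁻¹ᵁ Ok).ι := isIso_of_isOpenImmersion_of_opensRange_eq_top _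
    (TopologicalSpace.Opens.ext (Set.range_eq_univ.2 (f ⁻¹ᵁ Ok).ι.surjective))
  have : f = inv (f ⁻¹ᵁ Ok).ι ≫ (f ∣_ Ok) ≫ Ok.ι := by
    rw [morphismRestrict_ι, IsIso.inv_hom_id_assoc]
  show IsImmersion f
  rw [this]
  infer_instance

end Groth.Agent.AlgSpLimDesc
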