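import Groth.Agent.AlgSpLimDesc.Open
import Groth.Agent.AlgSpLimDesc.ImmScheme
import Groth.Agent.ImmDescent.Basic

/-!
An immersion into a limit of algebraic spaces with affine transition maps, of finite type over a
base, is an immersion into a stage.
-/

set_option autoImplicit false
set_option backward.isDefEq.respectTransparency.types false

universe u

open CategoryTheory CategoryTheory.Limits AlgebraicGeometry AlgSp
open Groth.Agent.AlgSpLib Groth.Agent.AlgSpPts

namespace Groth.Agent.AlgSpLimDesc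

variable {S : Scheme.{u}}

/-- A morphism whose points lie in an open subspace factors through it. -/
theorem exists_factor_sp {X' X F : Sp S} {j : X' ⟶ X} (hj : RepWith @IsOpenImmersion j) (g : F ⟶ X)
    (h : ∀ z, Points.map g z ∈ Set.range (Points.map j)) : ∃ l : F ⟶ X', l ≫ j = g := by
  have := mono_of_repWith_isOpenImmersion hj
  have s₁ := IsPullback.of_hasPullback g j
  have : Mono (pullback.fst g j) :=
    MorphismProperty.pullback_fst (P := MorphismProperty.monomorphisms (Sp S)) _ _ ‹Mono j›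
  have : IsIso (pullback.fst g j) := isIso_of_mono_of_lifts _ fun T a => by
    obtain ⟨l, hl⟩ := AlgSpFin.exists_factor_of_range hj (a ≫ g) fun t => by
      rw [← Points.map_ofPt]; exact h _
    exact ⟨s₁.lift a l hl.symm, s₁.lift_fst _ _ _⟩
  exact ⟨inv (pullback.fst g j) ≫ pullback.snd g j, by
    rw [Category.assoc, ← pullback.condition, IsIso.inv_hom_id_assoc]⟩

/-- Cancellation of a monomorphism in a pullback square. -/
theorem isPullback_of_comp_mono {C : Type*} [Category C] {P A B G H : C} {fst : P ⟶ A} {snd : P ⟶ B}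
    {l : A ⟶ G} {b : B ⟶ G} {j : G ⟶ H} [Mono j] (sq : IsPullback fst snd (l ≫ j) (b ≫ j)) :
    IsPullback fst snd l b :=
  IsPullback.of_isLimit' ⟨by rw [← cancel_mono j, Category.assoc, Category.assoc, sq.w]⟩
    (PullbackCone.IsLimit.mk _ (fun s => sq.lift s.fst s.snd (by rw [s.condition_assoc]))
      (fun s => sq.lift_fst _ _ _) (fun s => sq.lift_snd _ _ _)
      (fun s l h₁ h₂ => sq.hom_ext (by simp [h₁]) (by simp [h₂])))

variable {I : Type u} [SmallCategory I] [IsCofiltered I] {D : I ⥤ Sp S} {c : Cone D}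

/-- Immersions into a limit, of finite type over a base, are immersions into a stage. -/
theorem exists_stage_immersion [QuasiSeparatedSpace ↥S] (hD : ∀ i, IsAlgSpace (D.obj i))
    (hDa : ∀ (i j : I) (φ : i ⟶ j), IsAffineMor (D.map φ)) (hc : IsLimit c)
    (hqs : ∀ i, IsQuasiSeparatedSp (D.obj i)) {B Y : Sp S} (hB : IsAlgSpace B) (hY : IsAlgSpace Y)
    (hYqc : IsQuasiCompactSp Y) (y : Y ⟶ c.pt) (hy : RepWith @IsImmersion y) {i₁ : I} (t : D.obj i₁ ⟶ B)
    (hYB : LocP @LocallyOfFiniteType (y ≫ c.π.app i₁ ≫ t)) :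
    ∃ i₀ : I, ∀ (i : I) (_ : i ⟶ i₀), RepWith @IsImmersion (y ≫ c.π.app i) := by
  haveI := compactSpace_points_of_isQuasiCompactSp hYqc
  let g := y ≫ c.π.app i₁
  -- a quasi-compact open neighbourhood of the image
  choose K hK hKc hKmem using fun z : Points Y =>
    exists_compact_nhd (hD i₁) (Points.map g z) Set.univ isOpen_univ trivial
  obtain ⟨s, hs⟩ := (isCompact_range (Points.continuous_map g)).elim_finite_subcover (fun z => K z) hK (by
    rintro _ ⟨z, rfl⟩
    exact Set.mem_iUnion.2 ⟨z, (hKmem z).1⟩)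
  let O : Set (Points (D.obj i₁)) := ⋃ z ∈ s, K z
  have hO : IsOpen O := isOpen_biUnion fun z _ => hK z
  have hOc : IsCompact O := s.isCompact_biUnion fun z _ => hKc z
  obtain ⟨W, jW, hjW, hrW⟩ := AlgSpFin.exists_open_subspace ⟨D.obj i₁, hD i₁⟩ O hO
  have : CompactSpace (Points W.obj) := by
    have hind : Topology.IsInducing (Points.map jW.hom) := (AlgSpFin.isEmbedding_map_of_immersion (i := jW.hom) (hD i₁)
      ⟨hjW.1, fun A B g fst snd sq => (have : IsOpenImmersion snd.left := hjW.2 g fst snd sq; (inferInstance : IsImmersion snd.left))⟩).1.isInducing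
    rw [← isCompact_univ_iff, hind.isCompact_iff, Set.image_univ, hrW]
    exact hOc
  obtain ⟨V, v₀, hV, hv₀, hv₀s⟩ := exists_affine_chart_of_compactSpace W.property
  let v : (yon S).obj V ⟶ D.obj i₁ := v₀ ≫ jW.hom
  have hv : RepWith @Etale v := repWith_comp hv₀ ⟨hjW.1, fun A B g fst snd sq => by
    have : IsOpenImmersion snd.left := hjW.2 g fst snd sq
    show Etale snd.left
    infer_instance⟩
  have hvr : O ⊆ Set.range (Points.ofPt v) := by
    rw [← hrW]
    rintro _ ⟨w, rfl⟩
    obtain ⟨u, rfl⟩ := surjective_ofPt hv₀s w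
    exact ⟨u, by rw [Points.map_ofPt]⟩
  obtain ⟨F, cF, p, hF, hp, ⟨hlim⟩, hio, θs, θ, hθs, hθ, hcomp, -⟩ := exists_chartSystem_compat hDa hc hV v
  haveI : ∀ k, IsAffine ((F ⋙ Over.forget S).obj k) := hF
  let o : Over i₁ := Over.mk (𝟙 i₁)
  have hπ : ∀ k : Over i₁, IsPullback ((yon S).map (cF.π.app k)) θ (θs k) (c.π.app k.left) := fun k => by
    refine IsPullback.of_right ?_ (hcomp k) (hθs k)
    have he' : cF.π.app k ≫ p k = cF.π.app o ≫ p o := by
      rw [← hp (Over.homMk k.hom : k ⟶ o), ← Category.assoc, cF.w]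
    rw [← Functor.map_comp, he', c.w]
    exact hθ
  obtain ⟨P, e, a, sP⟩ := hy.1 θ
  have he : IsImmersion e.left := hy.2 θ a e sP
  have hsq : ∀ k : Over i₁, IsPullback a ((yon S).map (e ≫ cF.π.app k)) (y ≫ c.π.app k.left) (θs k) := fun k => by
    rw [Functor.map_comp]
    exact sP.paste_vert (hπ k).flip
  haveI : IsAffine ((F ⋙ Over.forget S).obj o) := hF o
  haveI hPc : CompactSpace P.left := by
    have h1 := isQuasiCompactMor_of_qcqs hY (hD i₁) g hYqc (hqs i₁) (IsAlgSpace.yon_obj (F.obj o))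
      (isQuasiCompactSp_yon (F.obj o) (inferInstanceAs (CompactSpace ((F ⋙ Over.forget S).obj o))))
      (θs o) _ _ (hsq o)
    haveI := compactSpace_points_of_isQuasiCompactSp h1
    exact (Points.schemeHomeo P).symm.compactSpace
  have hev : ∀ k, RepWith @Etale (θs k) := fun k => repWith_baseChange (hθs k) hv
  have hft : LocallyOfFiniteType (e ≫ cF.π.app o).left := by
    have hl : LocP @LocallyOfFiniteType g := by
      refine locP_of_comp (Q := @LocallyOfFiniteType) (R := (⊤ : MorphismProperty Scheme.{u})) hY (hD i₁) hB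
        (g := t) (by rwa [Category.assoc]) (locP_top t)
        fun _ _ _ k m hk _ => @locallyOfFiniteType_of_comp _ _ _ k m hk
    exact hl a (θs o) _ (repWith_baseChange (hsq o).flip (hev o)) (hev o) (hsq o).w
  obtain ⟨j, -, hj⟩ := @exists_stage_comp_isImmersion _ _ _ _ _ _ hlim P.left hPc e.left he o hft
  refine ⟨j.left, fun i φ => ?_⟩
  let k : Over i₁ := Over.mk (φ ≫ j.hom)
  let Ok : Set (Points (D.obj i)) := Points.map (D.map (φ ≫ j.hom)) ⁻¹' O
  obtain ⟨Wk, jk, hjk, hrk⟩ := AlgSpFin.exists_open_subspace ⟨D.obj i, hD i⟩ Ok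
    (hO.preimage (Points.continuous_map _))
  have : Mono jk.hom := mono_of_repWith_isOpenImmersion hjk
  obtain ⟨b, hb⟩ := exists_factor_sp hjk (θs k) fun z => by
    rw [hrk]
    show Points.map (D.map k.hom) (Points.map (θs k) z) ∈ O
    rw [← Points.map_comp, ← (hθs k).w, Points.map_comp, Points.map_comp, ← hrW]
    exact ⟨_, rfl⟩
  obtain ⟨l, hl⟩ := exists_factor_sp hjk (y ≫ c.π.app i) fun z => by
    rw [hrk]
    show Points.map (D.map k.hom) (Points.map (y ≫ c.π.app i) z) ∈ O
    rw [← Points.map_comp, Category.assoc, c.w]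
    exact hs ⟨z, rfl⟩
  have sb : IsPullback (𝟙 _) b (θs k) jk.hom := IsPullback.of_isLimit' ⟨by rw [Category.id_comp, hb]⟩
    (PullbackCone.IsLimit.mk _ (fun s => s.fst) (fun s => Category.comp_id _)
      (fun s => by rw [← cancel_mono jk.hom, Category.assoc, hb]; exact s.condition)
      (fun s l h₁ _ => by rw [← h₁, Category.comp_id]))
  have hb' : RepWith @Etale b := repWith_baseChange sb (hev k)
  have hbs : RepWith @Surjective b := repWith_surjective_of_map hb'.1 fun z => by
    have hz : Points.map jk.hom z ∈ Ok := by rw [← hrk]; exact ⟨z, rfl⟩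
    obtain ⟨u, hu⟩ := hvr hz
    obtain ⟨x, -, hx⟩ := exists_point_of_isPullback (hθs k) (Points.ofPt (𝟙 _) u) (Points.map jk.hom z)
      (by rw [Points.map_ofPt, Category.id_comp, hu]; rfl)
    obtain ⟨x', -, hx'⟩ := exists_point_of_isPullback sb x z hx
    exact ⟨x', hx'⟩
  have sl : IsPullback a ((yon S).map (e ≫ cF.π.app k)) l b := isPullback_of_comp_mono (j := jk.hom) (by
    rw [hl, hb]; exact hsq k)
  have hk : IsImmersion (e ≫ cF.π.app k).left := hj k (Over.homMk φ)
  have hrep : Representable l := (repWith_of_comp_mono (P := (⊤ : MorphismProperty Scheme.{u})) l jk.hom (by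
    rw [hl]
    exact repWith_comp ⟨hy.1, fun _ _ _ _ _ _ => trivial⟩
      ⟨(repWith_isAffineHom_of_isAffineMor (isAffineMor_π hDa hc i)).1, fun _ _ _ _ _ _ => trivial⟩)).1
  have := Groth.Agent.ImmDescent.qcImmersion_descendsAlong.{u}
  have hL : RepWith (@IsImmersion ⊓ @QuasiCompact : MorphismProperty Scheme.{u}) l :=
    repWith_of_chart_isPullback Wk.property hrep hb' hbs sl ⟨hk, by
      haveI : IsAffine ((F ⋙ Over.forget S).obj k) := hF k
      exact @quasiCompact_of_compactSpace _ _ (e ≫ cF.π.app k).left hPc (inferInstanceAs (QuasiSeparatedSpace ((F ⋙ Over.forget S).obj k)))⟩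
  rw [← hl]
  exact repWith_comp ⟨hL.1, fun A B g fst snd sq => (hL.2 g fst snd sq).1⟩
    ⟨hjk.1, fun A B g fst snd sq => by
      have : IsOpenImmersion snd.left := hjk.2 g fst snd sq
      show IsImmersion snd.left
      infer_instance⟩

end Groth.Agent.AlgSpLimDesc
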