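import Groth.Agent.AlgSpLib.LocP
import Groth.Agent.FibConstr.DescentLocal
import Groth.Prelude.Def_AlgSp4

/-!
An affine chart over a stage of a limit of algebraic spaces with affine transition maps gives a limit
of affine schemes; descent of properties of morphisms of affine charts to a stage.
-/

set_option autoImplicit false
set_option backward.isDefEq.respectTransparency.types false

universe u

open CategoryTheory CategoryTheory.Limits AlgebraicGeometry AlgSp
open Groth.Agent.AlgSpLib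

attribute [local instance] CategoryTheory.isConnected_of_hasTerminal

namespace Groth.Agent.AlgSpLimDesc

variable {S : Scheme.{u}} {I : Type u} [SmallCategory I] [IsCofiltered I] {D : I ⥤ Sp S}
  {c : Cone D} {i₀ : I}

/-- The base changes of an affine scheme over a stage form a limit of affine schemes, compatibly with
the maps to the system. -/
theorem exists_chartSystem_compat (hDa : ∀ (i j : I) (φ : i ⟶ j), IsAffineMor (D.map φ)) (hc : IsLimit c)
    {V : Over S} (hV : IsAffine V.left) (y : (yon S).obj V ⟶ D.obj i₀) :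
    ∃ (F : Over i₀ ⥤ Over S) (cF : Cone F) (p : ∀ j, F.obj j ⟶ V),
      (∀ j, IsAffine (F.obj j).left) ∧ (∀ {j k : Over i₀} (a : j ⟶ k), F.map a ≫ p k = p j) ∧
      Nonempty (IsLimit ((Over.forget S).mapCone cF)) ∧ IsIso (p (Over.mk (𝟙 i₀))) ∧
      ∃ (θs : ∀ j : Over i₀, (yon S).obj (F.obj j) ⟶ D.obj j.left) (θ : (yon S).obj cF.pt ⟶ c.pt),
        (∀ j, IsPullback ((yon S).map (p j)) (θs j) y (D.map j.hom)) ∧
        IsPullback ((yon S).map (cF.π.app (Over.mk (𝟙 i₀)) ≫ p (Over.mk (𝟙 i₀)))) θ y (c.π.app i₀) ∧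
        (∀ j, (yon S).map (cF.π.app j) ≫ θs j = θ ≫ c.π.app j.left) ∧
        ∀ {j k : Over i₀} (a : j ⟶ k), (yon S).map (F.map a) ≫ θs k = θs j ≫ D.map a.left := by
  have hsq : ∀ j : Over i₀, ∃ (W : Over S) (p : W ⟶ V) (θ : (yon S).obj W ⟶ D.obj j.left),
      IsPullback ((yon S).map p) θ y (D.map j.hom) ∧ IsAffine W.left := fun j => by
    obtain ⟨W, p, θ, h, hW⟩ := hDa _ _ j.hom hV y
    exact ⟨W, p, θ, h.flip, hW⟩
  choose W p θ sq hW using hsq
  have hw : ∀ {j k : Over i₀} (a : j ⟶ k), ((yon S).map (p j)) ≫ y = (θ j ≫ D.map a.left) ≫ D.map k.hom := by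
    intro j k a
    rw [(sq j).w, Category.assoc, ← D.map_comp, Over.w a]
  let m : ∀ {j k : Over i₀}, (j ⟶ k) → (W j ⟶ W k) := fun {j k} a =>
    (yon S).preimage ((sq k).lift _ _ (hw a))
  have hm₁ : ∀ {j k : Over i₀} (a : j ⟶ k), (yon S).map (m a) ≫ (yon S).map (p k) = (yon S).map (p j) :=
    fun a => by simp [m]
  have hm₂ : ∀ {j k : Over i₀} (a : j ⟶ k), (yon S).map (m a) ≫ θ k = θ j ≫ D.map a.left :=
    fun a => by simp [m]
  let F : Over i₀ ⥤ Over S :=
    { obj := W
      map := m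
      map_id := fun j => (yon S).map_injective ((sq j).hom_ext (by simp [hm₁]) (by simp [hm₂]))
      map_comp := fun {j k l} a b => (yon S).map_injective ((sq l).hom_ext
        (by simp [hm₁]) (by simp [hm₂, reassoc_of% (hm₂ a)])) }
  have hp : ∀ {j k : Over i₀} (a : j ⟶ k), F.map a ≫ p k = p j := fun a =>
    (yon S).map_injective (((yon S).map_comp _ _).trans (hm₁ a))
  haveI : ∀ j, IsAffine ((F ⋙ Over.forget S).obj j) := hW
  haveI : ∀ {j k : Over i₀} (a : j ⟶ k), IsAffineHom ((F ⋙ Over.forget S).map a) := fun a => inferInstance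
  haveI : HasLimit (F ⋙ Over.forget S) := LimLib.hasLimit_of_isAffineHom _
  haveI : HasLimit F := hasLimit_of_created F (Over.forget S)
  let o : Over i₀ := Over.mk (𝟙 i₀)
  let θ' : (F ⋙ yon S) ⟶ Over.forget i₀ ⋙ D :=
    { app := θ, naturality := fun j k a => hm₂ a }
  let lft : ∀ j : Over i₀, pullback y (c.π.app i₀) ⟶ (yon S).obj (F.obj j) := fun j =>
    (sq j).lift (pullback.fst _ _) (pullback.snd _ _ ≫ c.π.app j.left)
      (by rw [Category.assoc, c.w]; exact pullback.condition)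
  let cE : Cone (F ⋙ yon S) :=
    { pt := pullback y (c.π.app i₀)
      π :=
        { app := lft
          naturality := fun j k a => (sq k).hom_ext (by simp [lft, F, hm₁]) (by simp [lft, F, hm₂]) } }
  have hcE : IsLimit cE := by
    refine isLimitOfIsPullbackOfIsConnected θ' cE (c.whisker (Over.forget i₀))
      { hom := pullback.snd y (c.π.app i₀), w := fun j => ((sq j).lift_snd _ _ _).symm }
      (fun j => ?_) ((Functor.Initial.isLimitWhiskerEquiv (Over.forget i₀) c).symm hc)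
    refine (IsPullback.of_right ?_ ((sq j).lift_snd _ _ _) (sq j).flip.flip).flip.flip
    simp only [lft, IsPullback.lift_fst]
    show IsPullback _ _ y (c.π.app j.left ≫ D.map j.hom)
    rw [c.w]
    exact IsPullback.of_hasPullback y (c.π.app i₀)
  let e := (isLimitOfPreserves (yon S) (limit.isLimit F)).conePointUniqueUpToIso hcE
  refine ⟨F, limit.cone F, p, hW, hp, ⟨isLimitOfPreserves (Over.forget S) (limit.isLimit F)⟩, ?_,
    θ, e.hom ≫ pullback.snd y (c.π.app i₀), sq, ?_, fun j => ?_, fun a => hm₂ a⟩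
  · haveI : IsIso (D.map o.hom) := by
      show IsIso (D.map (𝟙 i₀))
      rw [D.map_id]; infer_instance
    haveI : IsIso ((yon S).map (p o)) := (sq o).isIso_fst_of_isIso
    exact isIso_of_reflects_iso _ (yon S)
  · refine (IsPullback.of_hasPullback y (c.π.app i₀)).of_iso e.symm (Iso.refl _) (Iso.refl _) (Iso.refl _)
      ?_ ?_ (by simp) (by simp)
    · have h1 : e.hom ≫ lft o = (yon S).map (limit.π F o) :=
        IsLimit.conePointUniqueUpToIso_hom_comp _ hcE o
      have h2 : (yon S).map (limit.π F o) ≫ (yon S).map (p o) = e.hom ≫ pullback.fst y (c.π.app i₀) := by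
        rw [← h1, Category.assoc]
        exact congrArg (e.hom ≫ ·) ((sq o).lift_fst _ _ _)
      show pullback.fst y (c.π.app i₀) ≫ 𝟙 _ = e.inv ≫ (yon S).map (limit.π F o ≫ p o)
      rw [(yon S).map_comp, h2, Iso.inv_hom_id_assoc, Category.comp_id]
    · simp
  · have h1 : e.hom ≫ lft j = (yon S).map (limit.π F j) := IsLimit.conePointUniqueUpToIso_hom_comp _ hcE j
    show (yon S).map (limit.π F j) ≫ θ j = _
    rw [← h1, Category.assoc, Category.assoc]
    exact congrArg (e.hom ≫ ·) ((sq j).lift_snd _ _ _)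

/-- The base changes of an affine scheme over a stage form a limit of affine schemes. -/
theorem exists_chartSystem (hDa : ∀ (i j : I) (φ : i ⟶ j), IsAffineMor (D.map φ)) (hc : IsLimit c)
    {V : Over S} (hV : IsAffine V.left) (y : (yon S).obj V ⟶ D.obj i₀) :
    ∃ (F : Over i₀ ⥤ Over S) (cF : Cone F) (p : ∀ j, F.obj j ⟶ V),
      (∀ j, IsAffine (F.obj j).left) ∧ (∀ {j k : Over i₀} (a : j ⟶ k), F.map a ≫ p k = p j) ∧
      Nonempty (IsLimit ((Over.forget S).mapCone cF)) ∧ IsIso (p (Over.mk (𝟙 i₀))) ∧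
      (∀ j, ∃ θ, IsPullback ((yon S).map (p j)) θ y (D.map j.hom)) ∧
      ∃ θ, IsPullback ((yon S).map (cF.π.app (Over.mk (𝟙 i₀)) ≫ p (Over.mk (𝟙 i₀)))) θ y (c.π.app i₀) := by
  obtain ⟨F, cF, p, hF, hp, hl, hio, θs, θ, hsq, hθ, -, -⟩ := exists_chartSystem_compat hDa hc hV y
  exact ⟨F, cF, p, hF, hp, hl, hio, fun j => ⟨θs j, hsq j⟩, θ, hθ⟩

/-- Descent of a property of a morphism into an affine chart over a stage. -/
theorem exists_stage_chart (hDa : ∀ (i j : I) (φ : i ⟶ j), IsAffineMor (D.map φ)) (hc : IsLimit c)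
    {V W : Over S} (hV : IsAffine V.left) (y : (yon S).obj V ⟶ D.obj i₀) (w : W ⟶ V)
    (P : MorphismProperty Scheme.{u}) [P.IsStableUnderBaseChange]
    (core : ∀ {J : Type u} [SmallCategory J] [IsCofiltered J] {D' : J ⥤ Scheme.{u}} [∀ j, IsAffine (D'.obj j)]
      {c' : Cone D'} (_ : IsLimit c') {o : J} (e : D'.obj o ⟶ V.left) [IsIso e],
      P (pullback.fst (c'.π.app o) (w.left ≫ inv e)) →
        ∃ j : Over o, P (pullback.fst (D'.map j.hom) (w.left ≫ inv e)))
    (hl : ∀ ⦃V' : Over S⦄ (t : V' ⟶ V) (θ : (yon S).obj V' ⟶ c.pt),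
      IsPullback ((yon S).map t) θ y (c.π.app i₀) →
      ∀ ⦃W' : Over S⦄ (p : W' ⟶ W) (q : W' ⟶ V'), IsPullback p q w t → P q.left) :
    ∃ (i : I) (φ : i ⟶ i₀), ∀ ⦃V' : Over S⦄ (t : V' ⟶ V) (θ : (yon S).obj V' ⟶ D.obj i),
      IsPullback ((yon S).map t) θ y (D.map φ) →
      ∀ ⦃W' : Over S⦄ (p : W' ⟶ W) (q : W' ⟶ V'), IsPullback p q w t → P q.left := by
  obtain ⟨F, cF, pr, hF, hp, ⟨hlim⟩, hio, hsq, θ₀, h₀⟩ := exists_chartSystem hDa hc hV y
  let o : Over i₀ := Over.mk (𝟙 i₀)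
  haveI : ∀ j, IsAffine ((F ⋙ Over.forget S).obj j) := hF
  haveI := hio
  haveI : IsIso (pr o).left := inferInstanceAs (IsIso ((Over.forget S).map (pr o)))
  haveI : @IsIso _ _ ((F ⋙ Over.forget S).obj o) V.left (pr o).left :=
    (inferInstance : IsIso (pr o).left)
  have key : ∀ {A : Scheme.{u}} (a : A ⟶ (F.obj o).left),
      P (pullback.fst a (w.left ≫ inv (pr o).left)) ↔ P (pullback.fst (a ≫ (pr o).left) w.left) := fun a =>
    FibConstr.prop_fst_iff_of_isPullback P (by
      have := FibConstr.isPullback_comp_mono (IsPullback.of_hasPullback a (w.left ≫ inv (pr o).left)) (pr o).left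
      simpa using this)
  obtain ⟨j, hj⟩ := core hlim (o := o) (pr o).left ((key _).2 (by
    let t := cF.π.app o ≫ pr o
    have hpb := IsPullback.of_hasPullback w t
    have := hl t θ₀ h₀ _ _ hpb
    rwa [FibConstr.prop_fst_iff_of_isPullback P (left_isPullback hpb).flip] at this))
  have hj' : P (pullback.fst (pr j.left).left w.left) := by
    have := (key ((F ⋙ Over.forget S).map j.hom)).1 hj
    exact (FibConstr.prop_fst_congr P (congrArg (fun k => Over.Hom.left k) (hp j.hom)) w.left).1 this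
  refine ⟨j.left.left, j.left.hom, fun V' t θ h W' p q hpq => ?_⟩
  obtain ⟨θj, hθj⟩ := hsq j.left
  obtain ⟨k, hk⟩ : ∃ k : V' ⟶ F.obj j.left, k ≫ pr j.left = t := by
    refine ⟨(yon S).preimage (hθj.lift _ _ h.w), (yon S).map_injective ?_⟩
    simp
  rw [FibConstr.prop_fst_iff_of_isPullback P (left_isPullback hpq).flip, ← hk, Over.comp_left]
  exact FibConstr.prop_fst_comp P _ _ _ hj'

/-- The base changes of a chart of a morphism are charts of the base change. -/
theorem exists_baseChange_chart {B₀ B : Sp S} {a₀ : B ⟶ B₀} {X₀ Y₀ X Y : Sp S} {f₀ : X₀ ⟶ Y₀}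
    {b₀ : Y₀ ⟶ B₀} {f : X ⟶ Y} {pY : Y ⟶ Y₀} {qY : Y ⟶ B} {pX : X ⟶ X₀}
    (hY : IsPullback pY qY b₀ a₀) (hX : IsPullback pX f f₀ pY) {U V : Over S}
    {a : (yon S).obj U ⟶ X₀} {b : (yon S).obj V ⟶ Y₀} {w : U ⟶ V} (comm : a ≫ f₀ = (yon S).map w ≫ b)
    {V' : Over S} (t : V' ⟶ V) (θ : (yon S).obj V' ⟶ B)
    (h : IsPullback ((yon S).map t) θ (b ≫ b₀) a₀) :
    ∃ (U' : Over S) (p : U' ⟶ U) (q : U' ⟶ V') (a' : (yon S).obj U' ⟶ X) (b' : (yon S).obj V' ⟶ Y),
      IsPullback p q w t ∧ IsPullback ((yon S).map t) b' b pY ∧ IsPullback ((yon S).map p) a' a pX ∧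
        a' ≫ f = (yon S).map q ≫ b' := by
  let b' := hY.lift ((yon S).map t ≫ b) θ (by rw [Category.assoc]; exact h.w)
  have hb' : IsPullback ((yon S).map t) b' b pY :=
    IsPullback.of_bot (by simpa [b'] using h) (hY.lift_fst _ _ _).symm hY
  have hpq := IsPullback.of_hasPullback w t
  have hbig : IsPullback ((yon S).map (pullback.fst w t)) ((yon S).map (pullback.snd w t) ≫ b')
      (a ≫ f₀) pY := by
    rw [comm]
    exact (yon_isPullback hpq).paste_vert hb'
  let a' := hX.lift ((yon S).map (pullback.fst w t) ≫ a) ((yon S).map (pullback.snd w t) ≫ b')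
    (by rw [Category.assoc]; exact hbig.w)
  refine ⟨_, _, _, a', b', hpq, hb', ?_, hX.lift_snd _ _ _⟩
  exact IsPullback.of_bot (by simpa [a'] using hbig) (hX.lift_fst _ _ _).symm hX

end Groth.Agent.AlgSpLimDesc
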