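import Groth.Agent.AlgSpLimDesc.Chart
import Groth.Agent.AlgSpPts.Qc
import Groth.Agent.AlgSpLib.EtaleMono

/-!
Properties of diagonals of morphisms of algebraic spaces descend to a stage of a limit with affine
transition maps.
-/

set_option autoImplicit false
set_option backward.isDefEq.respectTransparency.types false

universe u

open CategoryTheory CategoryTheory.Limits AlgebraicGeometry AlgSp
open Groth.Agent.AlgSpLib Groth.Agent.AlgSpPts

namespace Groth.Agent.AlgSpLimDesc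

variable {S : Scheme.{u}}

/-- A property of a representable morphism is read on one etale surjective chart of the target. -/
theorem repWith_of_chart_isPullback {P : MorphismProperty Scheme.{u}} [IsZariskiLocalAtTarget P]
    [P.IsStableUnderBaseChange]
    [P.DescendsAlong (@Surjective ⊓ @Flat ⊓ @QuasiCompact)] {A B : Sp S} (hB : IsAlgSpace B) {d : A ⟶ B}
    (hd : Representable d) {V W : Over S} {b : (yon S).obj V ⟶ B} (hb : RepWith @Etale b)
    (hbs : RepWith @Surjective b) {a : (yon S).obj W ⟶ A} {q : W ⟶ V}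
    (sq : IsPullback a ((yon S).map q) d b) (hq : P q.left) : RepWith P d := by
  refine repWith_of_fpqc (isFpqcCover_chart hB b hb hbs) (𝟙 B) hd fun T ψ hψ T' fst snd sd => ?_
  obtain ⟨-, _, l, hl⟩ := hψ
  rw [Category.comp_id] at hl
  obtain ⟨t, rfl⟩ := (yon S).map_surjective l
  obtain ⟨k, hk, hk'⟩ := exists_lift sq fst (snd ≫ t) (by rw [sd.w, Functor.map_comp, Category.assoc, hl])
  have sqk : IsPullback ((yon S).map k) ((yon S).map snd) ((yon S).map q) ((yon S).map t) := by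
    refine IsPullback.of_right ?_ (by rw [← Functor.map_comp, hk', Functor.map_comp]) sq
    rw [hk, hl]
    exact sd
  exact P.of_isPullback (left_isPullback (isPullback_of_yon sqk)) hq

/-- The diagonal of a morphism locally of finite type is locally of finite presentation. -/
theorem repWith_lfp_diagonal {X₀ Y₀ : Sp S} (hX : IsAlgSpace X₀) (hY : IsAlgSpace Y₀) {f₀ : X₀ ⟶ Y₀}
    (hf : LocP @LocallyOfFiniteType f₀) :
    RepWith @LocallyOfFinitePresentation (pullback.diagonal f₀) := by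
  have hR := isAlgSpace_pullback f₀ f₀ hX hX hY
  refine (locP_iff_repWith hR (representable_diagonal hX f₀)).1
    (locP_of_comp (Q := @LocallyOfFinitePresentation) hX hR hX ?_
      (locP_baseChange hX hY hX (IsPullback.of_hasPullback f₀ f₀).flip hf)
      fun _ _ _ k m hk hm => locallyOfFinitePresentation_of_comp k m hk hm)
  rw [pullback.diagonal_fst]
  intro U V a b h ha hb w
  rw [Category.comp_id] at w
  exact EtLocal.of_etale (P := @LocallyOfFinitePresentation) _ (etale_of_comp_chart ha hb h w.symm)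

section

variable {B₀ B : Sp S} {a₀ : B ⟶ B₀} {X₀ Y₀ X Y : Sp S} {f₀ : X₀ ⟶ Y₀}
    {b₀ : Y₀ ⟶ B₀} {f : X ⟶ Y} {pY : Y ⟶ Y₀} {qY : Y ⟶ B} {pX : X ⟶ X₀}

/-- The self fibre product of a base change and its diagonal are base changes. -/
theorem exists_diagonal_squares (hY : IsPullback pY qY b₀ a₀) (hX : IsPullback pX f f₀ pY) :
    ∃ m : pullback f f ⟶ pullback f₀ f₀,
      IsPullback m (pullback.fst f f ≫ f ≫ qY) (pullback.fst f₀ f₀ ≫ f₀ ≫ b₀) a₀ ∧
      IsPullback pX (pullback.diagonal f) (pullback.diagonal f₀) m := by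
  let m : pullback f f ⟶ pullback f₀ f₀ := pullback.lift (pullback.fst f f ≫ pX) (pullback.snd f f ≫ pX)
    (by rw [Category.assoc, Category.assoc, hX.w, pullback.condition_assoc])
  have hm₁ : m ≫ pullback.fst f₀ f₀ = pullback.fst f f ≫ pX := pullback.lift_fst _ _ _
  have hm₂ : m ≫ pullback.snd f₀ f₀ = pullback.snd f f ≫ pX := pullback.lift_snd _ _ _
  refine ⟨m, ?_, diagonal_baseChange hX (IsPullback.of_hasPullback f f) (pullback.diagonal_fst _)
    (pullback.diagonal_snd _) m hm₁ hm₂⟩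
  refine IsPullback.paste_vert ?_ (hX.paste_vert hY)
  have h := (IsPullback.of_hasPullback f f).flip.paste_horiz hX
  rw [← hX.w, ← hm₂] at h
  exact IsPullback.of_right h hm₁ (IsPullback.of_hasPullback f₀ f₀).flip

/-- Base change of a chart of a representable morphism given by a pullback square. -/
theorem exists_baseChange_chart_isPullback (hY : IsPullback pY qY b₀ a₀) (hX : IsPullback pX f f₀ pY)
    {U V : Over S} {a : (yon S).obj U ⟶ X₀} {b : (yon S).obj V ⟶ Y₀} {w : U ⟶ V}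
    (sq : IsPullback a ((yon S).map w) f₀ b) {V' : Over S} (t : V' ⟶ V) (θ : (yon S).obj V' ⟶ B)
    (h : IsPullback ((yon S).map t) θ (b ≫ b₀) a₀) :
    ∃ (U' : Over S) (p : U' ⟶ U) (q : U' ⟶ V') (a' : (yon S).obj U' ⟶ X) (b' : (yon S).obj V' ⟶ Y),
      IsPullback p q w t ∧ IsPullback ((yon S).map t) b' b pY ∧ IsPullback a' ((yon S).map q) f b' := by
  obtain ⟨U', p, q, a', b', hpq, hb', ha', comm⟩ := exists_baseChange_chart hY hX sq.w t θ h
  refine ⟨U', p, q, a', b', hpq, hb', IsPullback.of_right ?_ comm hX⟩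
  have h1 := (yon_isPullback hpq).paste_horiz sq
  rw [ha'.w, hb'.w] at h1
  exact h1

end

variable {I : Type u} [SmallCategory I] [IsCofiltered I] {D : I ⥤ Sp S} {c : Cone D} {i₀ : I}
  {X₀ Y₀ X Y : Sp S} {f₀ : X₀ ⟶ Y₀} {b₀ : Y₀ ⟶ D.obj i₀} {f : X ⟶ Y} {pY : Y ⟶ Y₀} {qY : Y ⟶ c.pt}
  {pX : X ⟶ X₀}

/-- A chart of the diagonal at a stage with the property, from the property of the limit diagonal. -/
theorem exists_stage_diagonal_chart [QuasiSeparatedSpace ↥S]
    (hDa : ∀ (i j : I) (φ : i ⟶ j), IsAffineMor (D.map φ)) (hc : IsLimit c) (hX₀ : IsAlgSpace X₀)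
    (hY₀ : IsAlgSpace Y₀) (hXqc : IsQuasiCompactSp X₀) (hXqs : IsQuasiSeparatedSp X₀)
    (hYqs : IsQuasiSeparatedSp Y₀) (hY : IsPullback pY qY b₀ (c.π.app i₀)) (hX : IsPullback pX f f₀ pY)
    (P H : MorphismProperty Scheme.{u}) [P.IsStableUnderBaseChange] [H.RespectsIso]
    (hH : RepWith H (pullback.diagonal f₀))
    (core : ∀ {J : Type u} [SmallCategory J] [IsCofiltered J] {D' : J ⥤ Scheme.{u}} [∀ j, IsAffine (D'.obj j)]
      {c' : Cone D'} (_ : IsLimit c') {o : J} {Z : Scheme.{u}} [CompactSpace Z] [QuasiSeparatedSpace Z]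
      (h : Z ⟶ D'.obj o), H h → P (pullback.fst (c'.π.app o) h) →
        ∃ j : Over o, P (pullback.fst (D'.map j.hom) h))
    (hl : ∀ ⦃U V : Over S⦄ (a : (yon S).obj U ⟶ X) (b : (yon S).obj V ⟶ pullback f f) (q : U ⟶ V),
      IsPullback a ((yon S).map q) (pullback.diagonal f) b → P q.left) :
    ∃ (i : I) (φ : i ⟶ i₀), ∀ (Xi Yi : Sp S) (fi : Xi ⟶ Yi) (pYi : Yi ⟶ Y₀) (qYi : Yi ⟶ D.obj i)
      (_ : IsPullback pYi qYi b₀ (D.map φ)) (pXi : Xi ⟶ X₀) (_ : IsPullback pXi fi f₀ pYi),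
        ∃ (U V : Over S) (a : (yon S).obj U ⟶ Xi) (b : (yon S).obj V ⟶ pullback fi fi) (q : U ⟶ V),
          RepWith @Etale b ∧ RepWith @Surjective b ∧
            IsPullback a ((yon S).map q) (pullback.diagonal fi) b ∧ P q.left := by
  have hR := isAlgSpace_pullback f₀ f₀ hX₀ hX₀ hY₀
  obtain ⟨hRc, -⟩ := qcqs_of_isPullback hX₀ hY₀ hX₀ (IsPullback.of_hasPullback f₀ f₀) hXqc hXqs hYqs hXqc hXqs
  obtain ⟨V, r, hV, hr, hrs⟩ := (isQuasiCompactSp_iff_affine hR).1 hRc
  haveI := hV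
  obtain ⟨Q, w, a, sq⟩ := (representable_diagonal hX₀ f₀) r
  have : QuasiCompact w.left := (isQuasiSeparatedMor_of_sp f₀ hXqs).2 r a w sq
  haveI : CompactSpace Q.left := QuasiCompact.compactSpace_of_compactSpace w.left
  have : Mono w.left := (repWith_mono_diagonal hX₀ f₀).2 r a w sq
  haveI : QuasiSeparatedSpace Q.left := quasiSeparatedSpace_of_quasiSeparated w.left
  have hw : H w.left := hH.2 r a w sq
  obtain ⟨m, hm, hΔ⟩ := exists_diagonal_squares hY hX
  obtain ⟨i, φ, hi⟩ := exists_stage_chart hDa hc hV (r ≫ pullback.fst f₀ f₀ ≫ f₀ ≫ b₀) w P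
    (fun hc' _ e _ h => core hc' _ ((MorphismProperty.cancel_right_of_respectsIso H _ _).2 hw) h)
    fun V' t θ ht U' p q hpq => by
      obtain ⟨U'', p', q', a', b', hpq', -, hsq⟩ := exists_baseChange_chart_isPullback hm hΔ sq t θ ht
      have hq' : P q'.left := hl a' b' q' hsq
      rw [FibConstr.prop_fst_iff_of_isPullback P (left_isPullback hpq').flip] at hq'
      exact (FibConstr.prop_fst_iff_of_isPullback P (left_isPullback hpq).flip).2 hq'
  refine ⟨i, φ, fun Xi Yi fi pYi qYi hYi pXi hXi => ?_⟩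
  obtain ⟨V', t, θ, ht⟩ : ∃ (V' : Over S) (t : V' ⟶ V) (θ : (yon S).obj V' ⟶ D.obj i),
      IsPullback ((yon S).map t) θ (r ≫ pullback.fst f₀ f₀ ≫ f₀ ≫ b₀) (D.map φ) := by
    obtain ⟨W, p, θ, h, -⟩ := hDa _ _ φ hV (r ≫ pullback.fst f₀ f₀ ≫ f₀ ≫ b₀)
    exact ⟨W, p, θ, h.flip⟩
  obtain ⟨m', hm', hΔ'⟩ := exists_diagonal_squares hYi hXi
  obtain ⟨U', p, q, a', b', hpq, hb', hsq⟩ := exists_baseChange_chart_isPullback hm' hΔ' sq t θ ht
  exact ⟨U', V', a', b', q, repWith_baseChange hb' hr, repWith_baseChange hb' hrs, hsq, hi t θ ht p q hpq⟩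

/-- A property of diagonals descends to a stage. -/
theorem exists_stage_diagonal [QuasiSeparatedSpace ↥S]
    (hDa : ∀ (i j : I) (φ : i ⟶ j), IsAffineMor (D.map φ)) (hD : ∀ i, IsAlgSpace (D.obj i))
    (hc : IsLimit c) (hX₀ : IsAlgSpace X₀)
    (hY₀ : IsAlgSpace Y₀) (hXqc : IsQuasiCompactSp X₀) (hXqs : IsQuasiSeparatedSp X₀)
    (hYqs : IsQuasiSeparatedSp Y₀) (hY : IsPullback pY qY b₀ (c.π.app i₀)) (hX : IsPullback pX f f₀ pY)
    (P H : MorphismProperty Scheme.{u}) [P.IsStableUnderBaseChange] [IsZariskiLocalAtTarget P]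
    [P.DescendsAlong (@Surjective ⊓ @Flat ⊓ @QuasiCompact)] [H.RespectsIso]
    (hH : RepWith H (pullback.diagonal f₀))
    (core : ∀ {J : Type u} [SmallCategory J] [IsCofiltered J] {D' : J ⥤ Scheme.{u}} [∀ j, IsAffine (D'.obj j)]
      {c' : Cone D'} (_ : IsLimit c') {o : J} {Z : Scheme.{u}} [CompactSpace Z] [QuasiSeparatedSpace Z]
      (h : Z ⟶ D'.obj o), H h → P (pullback.fst (c'.π.app o) h) →
        ∃ j : Over o, P (pullback.fst (D'.map j.hom) h))
    (hl : RepWith P (pullback.diagonal f)) :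
    ∃ (i : I) (φ : i ⟶ i₀), ∀ (Xi Yi : Sp S) (fi : Xi ⟶ Yi) (pYi : Yi ⟶ Y₀) (qYi : Yi ⟶ D.obj i)
      (_ : IsPullback pYi qYi b₀ (D.map φ)) (pXi : Xi ⟶ X₀) (_ : IsPullback pXi fi f₀ pYi),
        RepWith P (pullback.diagonal fi) := by
  obtain ⟨i, φ, hi⟩ := exists_stage_diagonal_chart hDa hc hX₀ hY₀ hXqc hXqs hYqs hY hX P H hH core
    fun U V a b q sq => hl.2 b a q sq
  refine ⟨i, φ, fun Xi Yi fi pYi qYi hYi pXi hXi => ?_⟩
  obtain ⟨U, V, a, b, q, hb, hbs, sq, hq⟩ := hi Xi Yi fi pYi qYi hYi pXi hXi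
  have hYi' := isAlgSpace_of_isPullback hYi hY₀ (hD i) (hD i₀)
  have hXi' := isAlgSpace_of_isPullback hXi hX₀ hYi' hY₀
  exact repWith_of_chart_isPullback (isAlgSpace_pullback fi fi hXi' hXi' hYi') (representable_diagonal hXi' fi)
    hb hbs sq hq

end Groth.Agent.AlgSpLimDesc
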