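import Groth.Agent.AlgSpLimDesc.Limit
import Groth.Agent.AlgSpLimDesc.Diag
import Groth.Agent.AlgSpLib.RepGlue

/-!
A closed immersion into a limit with affine transition maps, of finite type over a base, is a closed
immersion into a stage.
-/

set_option autoImplicit false
set_option backward.isDefEq.respectTransparency.types false

universe u

open CategoryTheory CategoryTheory.Limits AlgebraicGeometry AlgSp
open Groth.Agent.AlgSpLib Groth.Agent.AlgSpPts

namespace Groth.Agent.AlgSpLimDesc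

/-- A closed immersion into a limit of affine schemes of finite type over a stage is a closed
immersion into a stage. -/
theorem exists_stage_comp_isClosedImmersion {J : Type u} [SmallCategory J] [IsCofiltered J]
    {D : J ⥤ Scheme.{u}} [∀ j, IsAffine (D.obj j)] {c : Cone D} (hc : IsLimit c) {P : Scheme.{u}}
    (e : P ⟶ c.pt) [IsClosedImmersion e] {o : J} (hft : LocallyOfFiniteType (e ≫ c.π.app o)) :
    ∃ (j : J) (_ : j ⟶ o), ∀ (k : J) (_ : k ⟶ j), IsClosedImmersion (e ≫ c.π.app k) := by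
  haveI : IsAffine c.pt := Scheme.isAffine_of_isLimit _ hc
  haveI : IsAffine P := isAffine_of_isAffineHom e
  haveI := hft
  have h := (HasRingHomProperty.iff_of_isAffine (P := @LocallyOfFiniteType)).1 hft
  algebraize [(e ≫ c.π.app o).appTop.hom]
  obtain ⟨s, hs⟩ := (h : Algebra.FiniteType Γ(D.obj o, ⊤) Γ(P, ⊤)).out
  have hx : ∀ x : Γ(P, ⊤), ∃ (j : J) (_ : j ⟶ o), x ∈ (e ≫ c.π.app j).appTop.hom.range := fun x => by
    obtain ⟨y, rfl⟩ := (IsClosedImmersion.isAffine_surjective_of_isAffine e).2 x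
    obtain ⟨i, t, rfl⟩ := exists_appTop_π_eq_of_isAffine_of_isLimit D c hc y
    obtain ⟨j, a, b, -⟩ := IsCofilteredOrEmpty.cone_objs i o
    refine ⟨j, b, (D.map a).appTop t, ?_⟩
    rw [← c.w a]
    rfl
  choose j hj hjx using hx
  classical
  obtain ⟨l, fl, hl⟩ : ∃ (l : J) (_ : l ⟶ o), ∀ x ∈ s, Nonempty (l ⟶ j x) := by
    obtain ⟨l, hl⟩ := IsCofiltered.inf_objs_exists (insert o (s.image j))
    exact ⟨l, (hl (Finset.mem_insert_self _ _)).some, fun x hx =>
      hl (Finset.mem_insert_of_mem (Finset.mem_image_of_mem _ hx))⟩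
  refine ⟨l, fl, fun k ψ => IsClosedImmersion.of_surjective_of_isAffine _ ?_⟩
  have hmono : ∀ {a b : J} (φ : a ⟶ b), (e ≫ c.π.app b).appTop.hom.range ≤ (e ≫ c.π.app a).appTop.hom.range := by
    intro a b φ
    rw [show e ≫ c.π.app b = (e ≫ c.π.app a) ≫ D.map φ by rw [Category.assoc, c.w],
      Scheme.Hom.comp_appTop, CommRingCat.hom_comp]
    rintro _ ⟨z, rfl⟩
    exact ⟨_, rfl⟩
  apply RingHom.range_eq_top.1
  rw [eq_top_iff]
  intro x _
  have hmem : x ∈ Algebra.adjoin Γ(D.obj o, ⊤) (s : Set Γ(P, ⊤)) := by rw [hs]; trivial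
  induction hmem using Algebra.adjoin_induction with
  | mem x hx => exact hmono (ψ ≫ (hl x hx).some) (hjx x)
  | algebraMap r => exact hmono (ψ ≫ fl) ⟨r, rfl⟩
  | add x y _ _ hx hy => exact add_mem (hx trivial) (hy trivial)
  | mul x y _ _ hx hy => exact mul_mem (hx trivial) (hy trivial)

variable {S : Scheme.{u}} {I : Type u} [SmallCategory I] [IsCofiltered I] {D : I ⥤ Sp S}
  {c : Cone D}

/-- Closed immersions into the limit of finite type over a base are closed immersions into a stage. -/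
theorem exists_stage_closedImmersion (hD : ∀ i, IsAlgSpace (D.obj i))
    (hDa : ∀ (i j : I) (φ : i ⟶ j), IsAffineMor (D.map φ)) (hc : IsLimit c)
    (hqc : ∀ i, IsQuasiCompactSp (D.obj i)) {B Y : Sp S} (hB : IsAlgSpace B) (hY : IsAlgSpace Y)
    (y : Y ⟶ c.pt) (hy : RepWith @IsClosedImmersion y) {i₁ : I} (t : D.obj i₁ ⟶ B)
    (hYB : LocP @LocallyOfFiniteType (y ≫ c.π.app i₁ ≫ t)) :
    ∃ i₀ : I, ∀ (i : I) (_ : i ⟶ i₀), RepWith @IsClosedImmersion (y ≫ c.π.app i) := by
  obtain ⟨V, v, hV, hv, hvs⟩ := (isQuasiCompactSp_iff_affine (hD i₁)).1 (hqc i₁)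
  obtain ⟨F, cF, p, hF, hp, ⟨hlim⟩, hio, θs, θ, hθs, hθ, hcomp, -⟩ := exists_chartSystem_compat hDa hc hV v
  haveI : ∀ k, IsAffine ((F ⋙ Over.forget S).obj k) := hF
  obtain ⟨P, e, a, sP⟩ := hy.1 θ
  haveI he : IsClosedImmersion e.left := hy.2 θ a e sP
  let o : Over i₁ := Over.mk (𝟙 i₁)
  have hπ : ∀ k : Over i₁, IsPullback ((yon S).map (cF.π.app k)) θ (θs k) (c.π.app k.left) := fun k => by
    refine IsPullback.of_right ?_ (hcomp k) (hθs k)
    have he' : cF.π.app k ≫ p k = cF.π.app o ≫ p o := by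
      rw [← hp (Over.homMk k.hom : k ⟶ o), ← Category.assoc, cF.w]
    rw [← Functor.map_comp, he', c.w]
    exact hθ
  have hsq : ∀ k : Over i₁, IsPullback a ((yon S).map (e ≫ cF.π.app k)) (y ≫ c.π.app k.left) (θs k) := fun k => by
    rw [Functor.map_comp]
    exact sP.paste_vert (hπ k).flip
  have hft : LocallyOfFiniteType (e ≫ cF.π.app o).left := by
    have hl : LocP @LocallyOfFiniteType (y ≫ c.π.app i₁) := by
      refine locP_of_comp (Q := @LocallyOfFiniteType) (R := (⊤ : MorphismProperty Scheme.{u})) hY (hD i₁) hB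
        (g := t) (by rwa [Category.assoc]) (locP_top t)
        fun _ _ _ k m hk _ => @locallyOfFiniteType_of_comp _ _ _ k m hk
    have hev : RepWith @Etale (θs o) := repWith_baseChange (hθs o) hv
    exact hl a (θs o) _ (repWith_baseChange (hsq o).flip hev) hev (hsq o).w
  obtain ⟨j, -, hj⟩ := @exists_stage_comp_isClosedImmersion _ _ _ _ _ _ hlim P.left e.left he o
    (by rw [Over.comp_left] at hft; exact hft)
  refine ⟨j.left, fun i φ => ?_⟩
  let k : Over i₁ := Over.mk (φ ≫ j.hom)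
  have hk : IsClosedImmersion (e ≫ cF.π.app k).left := hj k (Over.homMk φ)
  have hrep : Representable (y ≫ c.π.app i) :=
    (repWith_comp (P := (⊤ : MorphismProperty Scheme.{u})) ⟨hy.1, fun _ _ _ _ _ _ => trivial⟩
      ⟨(repWith_isAffineHom_of_isAffineMor (isAffineMor_π hDa hc i)).1, fun _ _ _ _ _ _ => trivial⟩).1
  have := Groth.Agent.FpqcDescent.isClosedImmersion_descendsAlong.{u}
  exact repWith_of_chart_isPullback (hD i) hrep (repWith_baseChange (hθs k) hv) (repWith_baseChange (hθs k) hvs)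
    (hsq k) hk

end Groth.Agent.AlgSpLimDesc
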