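import Mathlib.AlgebraicGeometry.AffineTransitionLimit
import Mathlib.AlgebraicGeometry.Morphisms.FiniteType
import Mathlib.AlgebraicGeometry.Morphisms.ClosedImmersion

/-!
A morphism of systems of schemes over affine schemes whose limit is a closed immersion is a closed
immersion at a stage, when the transition maps are closed immersions into the base changes.
-/

set_option autoImplicit false
set_option backward.isDefEq.respectTransparency.types false

universe u

open CategoryTheory CategoryTheory.Limits AlgebraicGeometry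

namespace Groth.Agent.AlgSpLimDesc

/-- Descent of closed immersions for systems. -/
theorem exists_stage_isClosedImmersion_system {J : Type u} [SmallCategory J] [IsCofiltered J]
    {P W : J ⥤ Scheme.{u}} [∀ j, IsAffine (W.obj j)] [∀ j, CompactSpace (P.obj j)]
    [∀ j, QuasiSeparatedSpace (P.obj j)] [∀ {i j} (a : i ⟶ j), IsAffineHom (P.map a)] (f : P ⟶ W)
    {cP : Cone P} {cW : Cone W} (hP : IsLimit cP) (hW : IsLimit cW) (g : cP.pt ⟶ cW.pt)
    [IsClosedImmersion g] (hg : ∀ j, g ≫ cW.π.app j = cP.π.app j ≫ f.app j)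
    (o : J) (hft : LocallyOfFiniteType (f.app o))
    (hcl : ∀ {k j : J} (a : k ⟶ j),
      IsClosedImmersion (pullback.lift (P.map a) (f.app k) (f.naturality a) : P.obj k ⟶ pullback (f.app j) (W.map a))) :
    ∃ j : J, ∀ (k : J) (_ : k ⟶ j), IsClosedImmersion (f.app k) := by
  classical
  haveI : IsAffine cW.pt := Scheme.isAffine_of_isLimit _ hW
  haveI : IsAffine cP.pt := isAffine_of_isAffineHom g
  obtain ⟨i, hi⟩ := Scheme.exists_isAffine_of_isLimit P cP hP
  obtain ⟨j, a, b, -⟩ := IsCofilteredOrEmpty.cone_objs i o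
  haveI := hi
  haveI : IsAffine (P.obj j) := isAffine_of_isAffineHom (P.map a)
  have hfj : LocallyOfFiniteType (f.app j) := by
    haveI := hft
    haveI := hcl b
    rw [← pullback.lift_snd (P.map b) (f.app j) (f.naturality b)]
    exact MorphismProperty.comp_mem @LocallyOfFiniteType.{u} _ _ inferInstance inferInstance
  have h := (HasRingHomProperty.iff_of_isAffine (P := @LocallyOfFiniteType)).1 hfj
  letI : Algebra Γ(W.obj j, ⊤) Γ(P.obj j, ⊤) := (f.app j).appTop.hom.toAlgebra
  obtain ⟨s, hs⟩ := (h : Algebra.FiniteType Γ(W.obj j, ⊤) Γ(P.obj j, ⊤)).out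
  haveI : ∀ l : Over j, IsAffine ((Over.forget j ⋙ P).obj l) := fun l => isAffine_of_isAffineHom (P.map l.hom)
  have hP' : IsLimit (cP.whisker (Over.forget j)) := (Functor.Initial.isLimitWhiskerEquiv (Over.forget j) cP).symm hP
  have key : ∀ x : Γ(P.obj j, ⊤), ∃ (k : J) (φ : k ⟶ j),
      (P.map φ).appTop x ∈ (f.app k).appTop.hom.range := by
    intro x
    obtain ⟨y, hy⟩ := (IsClosedImmersion.isAffine_surjective_of_isAffine g).2 ((cP.π.app j).appTop x)
    obtain ⟨i', t, rfl⟩ := exists_appTop_π_eq_of_isAffine_of_isLimit W cW hW y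
    obtain ⟨l, c₁, c₂, -⟩ := IsCofilteredOrEmpty.cone_objs i' j
    let L : Over j := Over.mk c₂
    let z : Γ((Over.forget j ⋙ P).obj L, ⊤) :=
      (P.map c₂).appTop x - (f.app l).appTop ((W.map c₁).appTop t)
    have hz : ((cP.whisker (Over.forget j)).π.app L).appTop z = 0 := by
      show (cP.π.app l).appTop z = 0
      erw [map_sub, sub_eq_zero]
      rw [← CommRingCat.comp_apply, ← Scheme.Hom.comp_appTop, cP.w, ← hy, ← CommRingCat.comp_apply,
        ← CommRingCat.comp_apply, ← CommRingCat.comp_apply, ← Scheme.Hom.comp_appTop, ← Scheme.Hom.comp_appTop,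
        ← Scheme.Hom.comp_appTop, ← cW.w c₁, ← Category.assoc, hg, Category.assoc]
    obtain ⟨K, φ, hK⟩ := exists_appTop_map_eq_zero_of_isAffine_of_isLimit _ _ hP' L z hz
    refine ⟨K.left, φ.left ≫ c₂, (W.map (φ.left ≫ c₁)).appTop t, ?_⟩
    have h1 : (P.map φ.left).appTop z = 0 := hK
    erw [map_sub, sub_eq_zero] at h1
    rw [P.map_comp, Scheme.Hom.comp_appTop, CommRingCat.comp_apply]
    refine Eq.trans ?_ h1.symm
    rw [W.map_comp]
    simp only [← CommRingCat.comp_apply, ← Scheme.Hom.comp_appTop]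
    rw [← Category.assoc, ← f.naturality, Category.assoc]
    rfl
  choose k φ hk using key
  obtain ⟨l, ψ, hl⟩ : ∃ (l : J) (ψ : l ⟶ j), ∀ x ∈ s, ∃ q : l ⟶ k x, q ≫ φ x = ψ := by
    let x : ∀ z : s, k z.1 ⟶ j := fun z => φ z.1
    obtain ⟨l, ψ, q, hq⟩ := IsCofiltered.wideCospan x
    exact ⟨l, ψ, fun z hz => ⟨q ⟨z, hz⟩, hq ⟨z, hz⟩⟩⟩
  refine ⟨l, fun m χ => ?_⟩
  haveI : IsAffine (P.obj m) := isAffine_of_isAffineHom (P.map (χ ≫ ψ))
  refine IsClosedImmersion.of_surjective_of_isAffine _ (RingHom.range_eq_top.1 ?_)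
  have hR : ∀ y : Γ(P.obj j, ⊤), (P.map (χ ≫ ψ)).appTop y ∈ (f.app m).appTop.hom.range := fun y => by
    have hy : y ∈ Algebra.adjoin Γ(W.obj j, ⊤) (s : Set Γ(P.obj j, ⊤)) := hs ▸ Algebra.mem_top
    induction hy using Algebra.adjoin_induction with
    | mem x hx =>
      obtain ⟨q, hq⟩ := hl x hx
      obtain ⟨w, hw⟩ := hk x
      refine ⟨(W.map (χ ≫ q)).appTop w, ?_⟩
      rw [← hq, ← Category.assoc, P.map_comp (χ ≫ q), Scheme.Hom.comp_appTop, CommRingCat.comp_apply, ← hw]
      show ((W.map (χ ≫ q)).appTop ≫ (f.app m).appTop) w = ((f.app (k x)).appTop ≫ (P.map (χ ≫ q)).appTop) w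
      rw [← Scheme.Hom.comp_appTop, ← Scheme.Hom.comp_appTop, f.naturality]
    | algebraMap r =>
      refine ⟨(W.map (χ ≫ ψ)).appTop r, ?_⟩
      show ((W.map (χ ≫ ψ)).appTop ≫ (f.app m).appTop) r = ((f.app j).appTop ≫ (P.map (χ ≫ ψ)).appTop) r
      rw [← Scheme.Hom.comp_appTop, ← Scheme.Hom.comp_appTop, f.naturality]
    | add x y _ _ hx hy => rw [map_add]; exact add_mem hx hy
    | mul x y _ _ hx hy => rw [map_mul]; exact mul_mem hx hy
  rw [eq_top_iff]
  intro y _
  let e : P.obj m ⟶ pullback (f.app j) (W.map (χ ≫ ψ)) :=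
    pullback.lift (P.map (χ ≫ ψ)) (f.app m) (f.naturality (χ ≫ ψ))
  haveI : IsClosedImmersion e := hcl (χ ≫ ψ)
  obtain ⟨w, rfl⟩ := (IsClosedImmersion.isAffine_surjective_of_isAffine e).2 y
  have hkey := CommRingCat.closure_range_union_range_eq_top_of_isPushout
    (isPushout_appTop_of_isPullback (IsPullback.of_hasPullback (f.app j) (W.map (χ ≫ ψ))))
  have hw : w ∈ Subring.comap e.appTop.hom (f.app m).appTop.hom.range := by
    refine (hkey.ge.trans (Subring.closure_le.2 ?_)) (Subring.mem_top w)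
    rintro x (⟨a, rfl⟩ | ⟨a, rfl⟩) <;>
      show e.appTop _ ∈ (f.app m).appTop.hom.range <;>
      rw [← CommRingCat.comp_apply, ← Scheme.Hom.comp_appTop]
    · first
        | (rw [pullback.lift_fst]; exact hR a)
        | (rw [pullback.lift_snd]; exact ⟨a, rfl⟩)
    · first
        | (rw [pullback.lift_fst]; exact hR a)
        | (rw [pullback.lift_snd]; exact ⟨a, rfl⟩)
  exact hw

end Groth.Agent.AlgSpLimDesc
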