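import Groth.Agent.AlgSpLimDesc.Chart
import Groth.Agent.AlgSpPts.Qc
import Groth.Agent.FibConstr.Eventual

/-!
Properties of morphisms of algebraic spaces read on charts descend to a stage of a limit with affine
transition maps: etale, smooth, flat, surjective.
-/

set_option autoImplicit false
set_option backward.isDefEq.respectTransparency.types false

universe u

open CategoryTheory CategoryTheory.Limits AlgebraicGeometry AlgSp
open Groth.Agent.AlgSpLib Groth.Agent.AlgSpPts

namespace Groth.Agent.AlgSpLimDesc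

variable {S : Scheme.{u}}

/-- A chart of a morphism of quasi-compact spaces by affine schemes. -/
theorem exists_affine_setup [QuasiSeparatedSpace ↥S] {X₀ Y₀ : Sp S} (hX : IsAlgSpace X₀) (hY : IsAlgSpace Y₀)
    (hXqc : IsQuasiCompactSp X₀) (hYqc : IsQuasiCompactSp Y₀) (hYqs : IsQuasiSeparatedSp Y₀) (f₀ : X₀ ⟶ Y₀) :
    ∃ (V U : Over S) (b : (yon S).obj V ⟶ Y₀) (r : (yon S).obj U ⟶ pullback f₀ b) (w : U ⟶ V),
      IsAffine V.left ∧ IsAffine U.left ∧ RepWith @Etale b ∧ RepWith @Surjective b ∧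
        RepWith @Surjective r ∧ RepWith @Etale (r ≫ pullback.fst f₀ b) ∧
        RepWith @Surjective (r ≫ pullback.fst f₀ b) ∧ r ≫ pullback.snd f₀ b = (yon S).map w := by
  obtain ⟨V, b, hV, hb, hbs⟩ := (isQuasiCompactSp_iff_affine hY).1 hYqc
  haveI := hV
  have sq := IsPullback.of_hasPullback f₀ b
  have hQ : IsAlgSpace (pullback f₀ b) := isAlgSpace_of_isPullback sq hX (IsAlgSpace.yon_obj V) hY
  have hQc : IsQuasiCompactSp (pullback f₀ b) :=
    isQuasiCompactMor_of_qcqs hX hY f₀ hXqc hYqs (IsAlgSpace.yon_obj V)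
      (isQuasiCompactSp_yon V inferInstance) b _ _ sq
  obtain ⟨U, r, hU, hr, hrs⟩ := (isQuasiCompactSp_iff_affine hQ).1 hQc
  refine ⟨V, U, b, r, (yon S).preimage (r ≫ pullback.snd f₀ b), hV, hU, hb, hbs, hrs,
    repWith_comp hr (repWith_baseChange sq.flip hb), repWith_comp hrs (repWith_baseChange sq.flip hbs), by simp⟩

variable {I : Type u} [SmallCategory I] [IsCofiltered I] {D : I ⥤ Sp S} {c : Cone D} {i₀ : I}
  {X₀ Y₀ X Y : Sp S} {f₀ : X₀ ⟶ Y₀} {b₀ : Y₀ ⟶ D.obj i₀} {f : X ⟶ Y} {pY : Y ⟶ Y₀} {qY : Y ⟶ c.pt}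
  {pX : X ⟶ X₀}

/-- A chart at a stage with the property, from the property on all charts of the limit. -/
theorem exists_stage_charts [QuasiSeparatedSpace ↥S] (hDa : ∀ (i j : I) (φ : i ⟶ j), IsAffineMor (D.map φ))
    (hc : IsLimit c) (hX₀ : IsAlgSpace X₀) (hY₀ : IsAlgSpace Y₀) (hXqc : IsQuasiCompactSp X₀)
    (hYqc : IsQuasiCompactSp Y₀) (hYqs : IsQuasiSeparatedSp Y₀)
    (hY : IsPullback pY qY b₀ (c.π.app i₀)) (hX : IsPullback pX f f₀ pY)
    (hf₀ : LocP @LocallyOfFinitePresentation f₀)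
    (P : MorphismProperty Scheme.{u}) [P.IsStableUnderBaseChange]
    (core : ∀ {J : Type u} [SmallCategory J] [IsCofiltered J] {D' : J ⥤ Scheme.{u}} [∀ j, IsAffine (D'.obj j)]
      {c' : Cone D'} (_ : IsLimit c') {o : J} {Z : Scheme.{u}} [IsAffine Z] (h : Z ⟶ D'.obj o),
      LocallyOfFinitePresentation h → P (pullback.fst (c'.π.app o) h) →
        ∃ j : Over o, P (pullback.fst (D'.map j.hom) h))
    (hl : ∀ ⦃U V : Over S⦄ (a : (yon S).obj U ⟶ X) (b : (yon S).obj V ⟶ Y) (q : U ⟶ V),
      RepWith @Etale a → RepWith @Etale b → RepWith @Surjective b → a ≫ f = (yon S).map q ≫ b →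
        (∀ x y, Points.map f x = Points.map b y → ∃ z, Points.map a z = x ∧ Points.map ((yon S).map q) z = y) →
        P q.left) :
    ∃ (i : I) (φ : i ⟶ i₀), ∀ (Xi Yi : Sp S) (fi : Xi ⟶ Yi) (pYi : Yi ⟶ Y₀) (qYi : Yi ⟶ D.obj i)
      (_ : IsPullback pYi qYi b₀ (D.map φ)) (pXi : Xi ⟶ X₀) (_ : IsPullback pXi fi f₀ pYi),
        ∃ (U V : Over S) (a : (yon S).obj U ⟶ Xi) (b : (yon S).obj V ⟶ Yi) (q : U ⟶ V),
          RepWith @Etale a ∧ RepWith @Surjective a ∧ RepWith @Etale b ∧ RepWith @Surjective b ∧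
            a ≫ fi = (yon S).map q ≫ b ∧ P q.left := by
  obtain ⟨V, U, b, r, w, hV, hU, hb, hbs, hrs, ha, has, hw⟩ :=
    exists_affine_setup hX₀ hY₀ hXqc hYqc hYqs f₀
  haveI := hV; haveI := hU
  have comm : (r ≫ pullback.fst f₀ b) ≫ f₀ = (yon S).map w ≫ b := by
    rw [Category.assoc, pullback.condition, ← Category.assoc, hw]
  have hlfp : LocallyOfFinitePresentation w.left := hf₀ _ _ w ha hb comm
  obtain ⟨i, φ, hi⟩ := exists_stage_chart hDa hc hV (b ≫ b₀) w P
    (fun hc' _ e _ h => core hc' _ inferInstance h) fun V' t θ ht U' p q hpq => by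
      obtain ⟨U'', p', q', a', b', hpq', hb', ha', hcomm⟩ := exists_baseChange_chart hY hX comm t θ ht
      have hq' : P q'.left := by
        refine hl a' b' q' (repWith_baseChange ha' ha) (repWith_baseChange hb' hb)
          (repWith_baseChange hb' hbs) hcomm fun x y e => ?_
        let m : pullback f b' ⟶ pullback f₀ b := pullback.map _ _ _ _ pX ((yon S).map t) pY hX.w.symm hb'.w.symm
        have hm₁ : m ≫ pullback.fst f₀ b = pullback.fst f b' ≫ pX := pullback.lift_fst _ _ _
        have hm₂ : m ≫ pullback.snd f₀ b = pullback.snd f b' ≫ (yon S).map t := pullback.lift_snd _ _ _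
        have hm : IsPullback (pullback.snd f b') m ((yon S).map t) (pullback.snd f₀ b) := by
          refine (IsPullback.of_right ?_ hm₂ (IsPullback.of_hasPullback f₀ b)).flip
          have h1 := (IsPullback.of_hasPullback f b').paste_horiz hX
          rw [← hb'.w] at h1
          rwa [hm₁]
        have hr : IsPullback ((yon S).map p') (pullback.lift a' ((yon S).map q') hcomm) r m := by
          refine IsPullback.of_bot ?_ ?_ hm.flip
          · simp only [pullback.lift_snd]
            rw [hw]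
            exact yon_isPullback hpq'
          · apply pullback.hom_ext
            · rw [Category.assoc, Category.assoc, hm₁, pullback.lift_fst_assoc, ha'.w]
            · rw [Category.assoc, Category.assoc, hm₂, pullback.lift_snd_assoc, hw, (yon_isPullback hpq').w]
        obtain ⟨z, hz₁, hz₂⟩ := exists_point_of_isPullback (IsPullback.of_hasPullback f b') x y e
        obtain ⟨z', rfl⟩ := surjective_map_of_repWith (repWith_baseChange hr hrs) z
        exact ⟨z', by rw [← hz₁, ← Points.map_comp, pullback.lift_fst],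
          by rw [← hz₂, ← Points.map_comp, pullback.lift_snd]⟩
      rw [FibConstr.prop_fst_iff_of_isPullback P (left_isPullback hpq').flip] at hq'
      exact (FibConstr.prop_fst_iff_of_isPullback P (left_isPullback hpq).flip).2 hq'
  refine ⟨i, φ, fun Xi Yi fi pYi qYi hYi pXi hXi => ?_⟩
  obtain ⟨V', t, θ, ht, -⟩ : ∃ (V' : Over S) (t : V' ⟶ V) (θ : (yon S).obj V' ⟶ D.obj i),
      IsPullback ((yon S).map t) θ (b ≫ b₀) (D.map φ) ∧ IsAffine V'.left := by
    obtain ⟨W, p, θ, h, hW⟩ := hDa _ _ φ hV (b ≫ b₀)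
    exact ⟨W, p, θ, h.flip, hW⟩
  obtain ⟨U', p, q, a', b', hpq, hb', ha', hcomm⟩ := exists_baseChange_chart hYi hXi comm t θ ht
  exact ⟨U', V', a', b', q, repWith_baseChange ha' ha, repWith_baseChange ha' has,
    repWith_baseChange hb' hb, repWith_baseChange hb' hbs, hcomm, hi t θ ht p q hpq⟩

/-- Surjectivity descends along limits of affine schemes. -/
theorem exists_stage_surjective_of_isAffine {J : Type u} [SmallCategory J] [IsCofiltered J]
    {D' : J ⥤ Scheme.{u}} [∀ j, IsAffine (D'.obj j)] {c' : Cone D'} (hc' : IsLimit c') {o : J}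
    {Z : Scheme.{u}} [IsAffine Z] (h : Z ⟶ D'.obj o) (hh : LocallyOfFinitePresentation h)
    (hl : Surjective (pullback.fst (c'.π.app o) h)) :
    ∃ j : Over o, Surjective (pullback.fst (D'.map j.hom) h) := by
  have hC : LimLib.LCClosed (Set.range h)ᶜ := by
    refine LimLib.lcClosed_of_isConstructible (Topology.IsConstructible.compl ?_)
    rw [← Set.image_univ]
    exact (h.isLocallyConstructible_image Topology.IsLocallyConstructible.univ).isConstructible
  obtain ⟨j, φ, hj⟩ := FibConstr.exists_stage_forall_notMem hc' (𝟙 (D'.obj o)) hC fun t ht => by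
    obtain ⟨z, hz⟩ := hl.surj (pullback.fst (c'.π.app o) (𝟙 _) t)
    refine ht ⟨pullback.snd (c'.π.app o) h z, ?_⟩
    rw [← Scheme.Hom.comp_apply, ← pullback.condition, Scheme.Hom.comp_apply, hz, ← Scheme.Hom.comp_apply,
      pullback.condition, Category.comp_id]
  refine ⟨Over.mk φ, ⟨fun y => ?_⟩⟩
  obtain ⟨t, rfl⟩ : ∃ t, pullback.fst (D'.map φ) (𝟙 (D'.obj o)) t = y :=
    ⟨inv (pullback.fst (D'.map φ) (𝟙 _)) y, by rw [← Scheme.Hom.comp_apply, IsIso.inv_hom_id]; rfl⟩
  obtain ⟨z, hz⟩ := not_not.1 (hj t)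
  obtain ⟨p, hp, -⟩ := Scheme.Pullback.exists_preimage_pullback (f := D'.map φ) (g := h)
    (pullback.fst (D'.map φ) (𝟙 _) t) z (by
      rw [hz, ← Scheme.Hom.comp_apply, pullback.condition, Category.comp_id])
  exact ⟨p, hp⟩

/-- The scheme core for properties local at the source and at the target. -/
theorem core_of_local (P : MorphismProperty Scheme.{u}) [P.IsStableUnderBaseChange]
    [P.IsStableUnderComposition] [IsZariskiLocalAtSource P] [IsZariskiLocalAtTarget P]
    (hoi : ∀ {A B : Scheme.{u}} (f : A ⟶ B) [IsOpenImmersion f], P f)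
    (hd : FibConstr.AffineDescends @LocallyOfFinitePresentation P) {J : Type u} [SmallCategory J]
    [IsCofiltered J] {D' : J ⥤ Scheme.{u}} [∀ j, IsAffine (D'.obj j)] {c' : Cone D'} (hc' : IsLimit c')
    {o : J} {Z : Scheme.{u}} [IsAffine Z] (h : Z ⟶ D'.obj o) (hh : LocallyOfFinitePresentation h)
    (hl : P (pullback.fst (c'.π.app o) h)) : ∃ j : Over o, P (pullback.fst (D'.map j.hom) h) :=
  FibConstr.exists_stage_of_local P hoi hd hc' h hh hl

end Groth.Agent.AlgSpLimDesc
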