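import Groth.Agent.AlgSpLimDesc.Diag
import Groth.Agent.AlgSpPts.Basic
import Groth.Agent.FibConstr.DescentMain
import Groth.Agent.AlgSpLimDesc.Desc
import Groth.Agent.FibConstr.RingColim

/-!
Monomorphisms, universally injective morphisms and isomorphisms descend to a stage of a limit of
algebraic spaces with affine transition maps.
-/

set_option autoImplicit false
set_option backward.isDefEq.respectTransparency.types false

universe u

open CategoryTheory CategoryTheory.Limits AlgebraicGeometry AlgSp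
open Groth.Agent.AlgSpLib Groth.Agent.AlgSpPts

namespace Groth.Agent.AlgSpLimDesc

variable {S : Scheme.{u}}

/-- A universally injective morphism has surjective diagonal, on any sheaves. -/
theorem surjective_diagonal_of_univInjective {X Y : Sp S} {f : X ⟶ Y} (hf : IsUnivInjectiveMor f) :
    IsSurjectiveMor (pullback.diagonal f) := by
  intro z
  obtain ⟨z₀, hz₀⟩ := exists_ofPt z
  obtain ⟨K, str, e⟩ := z₀
  let g : (yon S).obj (Over.mk str) ⟶ pullback f f := (FieldPt.mk (F := pullback f f) K str e).toHom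
  let a := g ≫ pullback.fst f f
  let b := g ≫ pullback.snd f f
  let y : (yon S).obj (Over.mk str) ⟶ Y := a ≫ f
  have sq := IsPullback.of_hasPullback f y
  let sa := sq.lift a (𝟙 _) (Category.id_comp y).symm
  let sb := sq.lift b (𝟙 _) (by simp only [y, a, b, Category.id_comp, Category.assoc, pullback.condition])
  have hinj := hf (IsAlgSpace.yon_obj _) y _ _ sq
  let p' := FieldPt.mk (F := pullback f y) K str ((J S).uliftYonedaEquiv sa)
  let q' := FieldPt.mk (F := pullback f y) K str ((J S).uliftYonedaEquiv sb)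
  have hp : p'.toHom = sa := Equiv.symm_apply_apply _ _
  have hq : q'.toHom = sb := Equiv.symm_apply_apply _ _
  have hpq : Points.mk p' = Points.mk q' := by
    apply hinj
    rw [← Points.ofPt_toHom p' (IsLocalRing.closedPoint p'.K), ← Points.ofPt_toHom q' (IsLocalRing.closedPoint q'.K),
      Points.map_ofPt, Points.map_ofPt, hp, hq, sq.lift_snd, sq.lift_snd]
  rw [Points.mk_eq_mk_iff, rel_iff_toHom] at hpq
  obtain ⟨Ω, hΩ, w, c, d, h⟩ := hpq
  rw [hp, hq] at h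
  have hcd : c = d := (yon S).map_injective (by
    have h' := congrArg (· ≫ pullback.snd f y) h
    simp only [Category.assoc, sa, sb, sq.lift_snd] at h'
    rw [Category.comp_id, Category.comp_id] at h'
    exact h')
  subst hcd
  have h' := congrArg (· ≫ pullback.fst f y) h
  simp only [Category.assoc, sa, sb, sq.lift_fst] at h'
  have hdiag : ((yon S).map c ≫ a) ≫ pullback.diagonal f = (yon S).map c ≫ g := by
    apply pullback.hom_ext
    · simp [a]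
    · simpa [a, b] using h'
  let t : ↥(Over.mk w).left := IsLocalRing.closedPoint Ω
  refine ⟨Points.ofPt ((yon S).map c ≫ a) t, ?_⟩
  rw [Points.map_ofPt, hdiag, ofPt_comp]
  exact hz₀ _

theorem isSurjectiveMor_baseChange {F G H P : Sp S} {fst : P ⟶ F} {snd : P ⟶ G} {f : F ⟶ H} {g : G ⟶ H}
    (sq : IsPullback fst snd f g) (h : IsSurjectiveMor f) : IsSurjectiveMor snd :=
  surjective_snd sq h

variable {I : Type u} [SmallCategory I] [IsCofiltered I] {D : I ⥤ Sp S} {c : Cone D} {i₀ : I}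
  {X₀ Y₀ X Y : Sp S} {f₀ : X₀ ⟶ Y₀} {b₀ : Y₀ ⟶ D.obj i₀} {f : X ⟶ Y} {pY : Y ⟶ Y₀} {qY : Y ⟶ c.pt}
  {pX : X ⟶ X₀}

/-- Two properties holding eventually and stable under base change hold at a common stage. -/
theorem exists_stage_and (hD : ∀ i, IsAlgSpace (D.obj i)) (hX₀ : IsAlgSpace X₀) (hY₀ : IsAlgSpace Y₀)
    (P Q : MorphismProperty (Sp S))
    (hP : ∀ {A B A' B' : Sp S} (_ : IsAlgSpace A) (_ : IsAlgSpace B) (_ : IsAlgSpace B') {g : A ⟶ B}
      {l : B' ⟶ B} {k : A' ⟶ A} {g' : A' ⟶ B'}, IsPullback k g' g l → P g → P g')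
    (hQ : ∀ {A B A' B' : Sp S} (_ : IsAlgSpace A) (_ : IsAlgSpace B) (_ : IsAlgSpace B') {g : A ⟶ B}
      {l : B' ⟶ B} {k : A' ⟶ A} {g' : A' ⟶ B'}, IsPullback k g' g l → Q g → Q g')
    (h₁ : ∃ (i : I) (φ : i ⟶ i₀), ∀ (Xi Yi : Sp S) (fi : Xi ⟶ Yi) (pYi : Yi ⟶ Y₀) (qYi : Yi ⟶ D.obj i)
      (_ : IsPullback pYi qYi b₀ (D.map φ)) (pXi : Xi ⟶ X₀) (_ : IsPullback pXi fi f₀ pYi), P fi)
    (h₂ : ∃ (i : I) (φ : i ⟶ i₀), ∀ (Xi Yi : Sp S) (fi : Xi ⟶ Yi) (pYi : Yi ⟶ Y₀) (qYi : Yi ⟶ D.obj i)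
      (_ : IsPullback pYi qYi b₀ (D.map φ)) (pXi : Xi ⟶ X₀) (_ : IsPullback pXi fi f₀ pYi), Q fi) :
    ∃ (i : I) (φ : i ⟶ i₀), ∀ (Xi Yi : Sp S) (fi : Xi ⟶ Yi) (pYi : Yi ⟶ Y₀) (qYi : Yi ⟶ D.obj i)
      (_ : IsPullback pYi qYi b₀ (D.map φ)) (pXi : Xi ⟶ X₀) (_ : IsPullback pXi fi f₀ pYi), P fi ∧ Q fi := by
  obtain ⟨i₁, φ₁, h₁⟩ := h₁
  obtain ⟨i₂, φ₂, h₂⟩ := h₂
  obtain ⟨k, s₁, s₂, hs, -⟩ : ∃ (k : I) (s₁ : k ⟶ i₁) (s₂ : k ⟶ i₂), s₁ ≫ φ₁ = s₂ ≫ φ₂ ∧ True := by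
    obtain ⟨k, s₁, s₂, hs⟩ := IsCofiltered.cospan φ₁ φ₂
    exact ⟨k, s₁, s₂, hs, trivial⟩
  refine ⟨k, s₁ ≫ φ₁, fun Xk Yk fk pYk qYk hYk pXk hXk => ?_⟩
  have key : ∀ {i : I} (φ : i ⟶ i₀) (s : k ⟶ i), s ≫ φ = s₁ ≫ φ₁ → ∀ (R : MorphismProperty (Sp S)),
      (∀ {A B A' B' : Sp S} (_ : IsAlgSpace A) (_ : IsAlgSpace B) (_ : IsAlgSpace B') {g : A ⟶ B}
        {l : B' ⟶ B} {k : A' ⟶ A} {g' : A' ⟶ B'}, IsPullback k g' g l → R g → R g') →
      (∀ (Xi Yi : Sp S) (fi : Xi ⟶ Yi) (pYi : Yi ⟶ Y₀) (qYi : Yi ⟶ D.obj i)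
        (_ : IsPullback pYi qYi b₀ (D.map φ)) (pXi : Xi ⟶ X₀) (_ : IsPullback pXi fi f₀ pYi), R fi) →
      R fk := by
    intro i φ s e R hR hi
    have sqY := IsPullback.of_hasPullback b₀ (D.map φ)
    have sqX := IsPullback.of_hasPullback f₀ (pullback.fst b₀ (D.map φ))
    have hY₁ := isAlgSpace_of_isPullback sqY hY₀ (hD i) (hD i₀)
    have hX₁ := isAlgSpace_of_isPullback sqX hX₀ hY₁ hY₀
    have hYk' := isAlgSpace_of_isPullback hYk hY₀ (hD k) (hD i₀)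
    let l := sqY.lift pYk (qYk ≫ D.map s) (by rw [Category.assoc, ← D.map_comp, e]; exact hYk.w)
    have hl : l ≫ pullback.fst b₀ (D.map φ) = pYk := sqY.lift_fst _ _ _
    let lX := sqX.lift pXk (fk ≫ l) (by rw [Category.assoc, hl]; exact hXk.w)
    have sq : IsPullback lX fk (pullback.snd f₀ (pullback.fst b₀ (D.map φ))) l := by
      refine IsPullback.of_right ?_ (sqX.lift_snd _ _ _) sqX
      rw [sqX.lift_fst, hl]
      exact hXk
    exact hR hX₁ hY₁ hYk' sq (hi _ _ _ _ _ sqY _ sqX)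
  exact ⟨key φ₁ s₁ rfl P hP h₁, key φ₂ s₂ hs.symm Q hQ h₂⟩

/-- Monomorphisms descend to a stage. -/
theorem exists_stage_mono [QuasiSeparatedSpace ↥S] (hD : ∀ i, IsAlgSpace (D.obj i))
    (hDa : ∀ (i j : I) (φ : i ⟶ j), IsAffineMor (D.map φ)) (hc : IsLimit c) (hX₀ : IsAlgSpace X₀)
    (hY₀ : IsAlgSpace Y₀) (hXqc : IsQuasiCompactSp X₀) (hXqs : IsQuasiSeparatedSp X₀)
    (hYqs : IsQuasiSeparatedSp Y₀) (hY : IsPullback pY qY b₀ (c.π.app i₀)) (hX : IsPullback pX f f₀ pY)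
    [Mono f] (hf₀ : LocP @LocallyOfFiniteType f₀) :
    ∃ (i : I) (φ : i ⟶ i₀), ∀ (Xi Yi : Sp S) (fi : Xi ⟶ Yi) (pYi : Yi ⟶ Y₀) (qYi : Yi ⟶ D.obj i)
      (_ : IsPullback pYi qYi b₀ (D.map φ)) (pXi : Xi ⟶ X₀) (_ : IsPullback pXi fi f₀ pYi), Mono fi := by
  obtain ⟨i, φ, hi⟩ := exists_stage_diagonal hDa hD hc hX₀ hY₀ hXqc hXqs hYqs hY hX
    (MorphismProperty.isomorphisms Scheme.{u}) @LocallyOfFinitePresentation.{u} (repWith_lfp_diagonal hX₀ hY₀ hf₀)
    (fun hc' _ _ _ _ h hh hl => FibConstr.exists_stage_isIso hc' h hh hl)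
    ((repWith_diagonal_isomorphisms_iff f).2 inferInstance)
  exact ⟨i, φ, fun Xi Yi fi pYi qYi hYi pXi hXi =>
    (repWith_diagonal_isomorphisms_iff fi).1 (hi Xi Yi fi pYi qYi hYi pXi hXi)⟩

/-- Surjectivity of a morphism of finite presentation descends along limits of affine schemes. -/
theorem exists_stage_surjective_of_compactSpace {J : Type u} [SmallCategory J] [IsCofiltered J]
    {D' : J ⥤ Scheme.{u}} [∀ j, IsAffine (D'.obj j)] {c' : Cone D'} (hc' : IsLimit c') {o : J}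
    {Z : Scheme.{u}} [CompactSpace Z] (h : Z ⟶ D'.obj o) (hh : LocallyOfFinitePresentation h)
    (hl : Surjective (pullback.fst (c'.π.app o) h)) :
    ∃ j : Over o, Surjective (pullback.fst (D'.map j.hom) h) := by
  haveI := hh
  haveI : QuasiCompact h := quasiCompact_of_compactSpace h
  have hC : LimLib.LCClosed (Set.range h)ᶜ := by
    refine LimLib.lcClosed_of_isConstructible (Topology.IsConstructible.compl ?_)
    rw [← Set.image_univ]
    exact (h.isLocallyConstructible_image Topology.IsLocallyConstructible.univ).isConstructible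
  obtain ⟨j, φ, hj⟩ := FibConstr.exists_stage_forall_notMem hc' (𝟙 (D'.obj o)) hC fun t ht => by
    obtain ⟨z, hz⟩ := hl.surj (pullback.fst (c'.π.app o) (𝟙 _) t)
    refine ht ⟨pullback.snd (c'.π.app o) h z, ?_⟩
    rw [← Scheme.Hom.comp_apply, ← pullback.condition, Scheme.Hom.comp_apply, hz, ← Scheme.Hom.comp_apply,
      pullback.condition, Category.comp_id]
  refine ⟨Over.mk φ, ⟨fun y => ?_⟩⟩
  obtain ⟨t, rfl⟩ : ∃ t, pullback.fst (D'.map φ) (𝟙 (D'.obj o)) t = y :=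
    ⟨inv (pullback.fst (D'.map φ) (𝟙 _)) y, by rw [← Scheme.Hom.comp_apply, IsIso.inv_hom_id]; rfl⟩
  obtain ⟨z, hz⟩ := not_not.1 (hj t)
  obtain ⟨p, hp, -⟩ := Scheme.Pullback.exists_preimage_pullback (f := D'.map φ) (g := h)
    (pullback.fst (D'.map φ) (𝟙 _) t) z (by
      rw [hz, ← Scheme.Hom.comp_apply, pullback.condition, Category.comp_id])
  exact ⟨p, hp⟩

/-- Universal injectivity descends to a stage. -/
theorem exists_stage_univInjective [QuasiSeparatedSpace ↥S]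
    (hDa : ∀ (i j : I) (φ : i ⟶ j), IsAffineMor (D.map φ)) (hc : IsLimit c) (hX₀ : IsAlgSpace X₀)
    (hY₀ : IsAlgSpace Y₀) (hXqc : IsQuasiCompactSp X₀) (hXqs : IsQuasiSeparatedSp X₀)
    (hYqs : IsQuasiSeparatedSp Y₀) (hY : IsPullback pY qY b₀ (c.π.app i₀)) (hX : IsPullback pX f f₀ pY)
    (hf : IsUnivInjectiveMor f) (hf₀ : LocP @LocallyOfFiniteType f₀) :
    ∃ (i : I) (φ : i ⟶ i₀), ∀ (Xi Yi : Sp S) (fi : Xi ⟶ Yi) (pYi : Yi ⟶ Y₀) (qYi : Yi ⟶ D.obj i)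
      (_ : IsPullback pYi qYi b₀ (D.map φ)) (pXi : Xi ⟶ X₀) (_ : IsPullback pXi fi f₀ pYi),
        IsUnivInjectiveMor fi := by
  obtain ⟨i, φ, hi⟩ := exists_stage_diagonal_chart hDa hc hX₀ hY₀ hXqc hXqs hYqs hY hX
    @Surjective.{u} @LocallyOfFinitePresentation.{u} (repWith_lfp_diagonal hX₀ hY₀ hf₀)
    (fun hc' _ _ _ _ h hh hl => exists_stage_surjective_of_compactSpace hc' h hh hl)
    (fun U V a b q sq => (repWith_yon_map_iff _ q).1 (repWith_surjective_of_map (representable_yon_map q)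
      (surjective_snd sq (surjective_diagonal_of_univInjective hf))))
  refine ⟨i, φ, fun Xi Yi fi pYi qYi hYi pXi hXi => isUnivInjectiveMor_of_surjective_diagonal fun z => ?_⟩
  obtain ⟨U, V, a, b, q, -, hbs, sq, hq⟩ := hi Xi Yi fi pYi qYi hYi pXi hXi
  obtain ⟨v, rfl⟩ := surjective_ofPt hbs z
  obtain ⟨t, rfl⟩ := hq.surj v
  exact ⟨Points.ofPt a t, by rw [Points.map_ofPt, sq.w, ofPt_comp]⟩

end Groth.Agent.AlgSpLimDesc
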