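import Groth.Agent.AlgSpLimDesc.ClosedStage
import Groth.Agent.AlgSpPts.Misc

/-!
A limit along closed immersions which is of finite presentation is reached at a stage; closed
immersions into a base are reached at a stage.
-/

set_option autoImplicit false
set_option backward.isDefEq.respectTransparency.types false

universe u

open CategoryTheory CategoryTheory.Limits AlgebraicGeometry AlgSp
open Groth.Agent.AlgSpLib Groth.Agent.AlgSpPts

namespace Groth.Agent.AlgSpLimDesc

/-- A closed immersion is affine. -/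
theorem isAffineMor_of_isClosedImmersion {S : Scheme.{u}} {F G : Sp S} {f : F ⟶ G}
    (hf : RepWith @IsClosedImmersion f) : IsAffineMor f := by
  intro Z hZ g
  obtain ⟨W, i, fst, sq⟩ := hf.1 g
  haveI : IsClosedImmersion i.left := hf.2 g fst i sq
  haveI := hZ
  exact ⟨W, i, fst, sq, isAffine_of_isAffineHom i.left⟩

/-- A limit of affine closed subschemes which is of finite presentation over a stage is reached at a
stage. -/
theorem exists_stage_isIso_π {J : Type u} [SmallCategory J] [IsCofiltered J] {D : J ⥤ Scheme.{u}}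
    [∀ j, IsAffine (D.obj j)] {c : Cone D} (hc : IsLimit c) {o : J}
    (hcl : ∀ (j : J) (a : j ⟶ o), IsClosedImmersion (D.map a))
    (hfp : LocallyOfFinitePresentation (c.π.app o)) :
    ∃ (j : J) (_ : j ⟶ o), ∀ (k : J) (_ : k ⟶ j), IsIso (c.π.app k) := by
  haveI : IsAffine c.pt := Scheme.isAffine_of_isLimit _ hc
  haveI : ∀ k, IsAffine (((Functor.const J).obj c.pt).obj k) := fun _ => ‹_›
  have hfp' := (HasRingHomProperty.iff_of_isAffine (P := @LocallyOfFinitePresentation)).1 hfp
  have hsurj : ∀ {j : J} (a : j ⟶ o), Function.Surjective (D.map a).appTop := fun {j} a =>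
    haveI := hcl j a
    (IsClosedImmersion.isAffine_surjective_of_isAffine (D.map a)).2
  have hsurj' : ∀ (z : Γ(c.pt, ⊤)), ∃ r, (c.π.app o).appTop r = z := fun z => by
    obtain ⟨i, t, rfl⟩ := exists_appTop_π_eq_of_isAffine_of_isLimit D c hc z
    obtain ⟨j, a, b, -⟩ := IsCofilteredOrEmpty.cone_objs i o
    obtain ⟨r, hr⟩ := hsurj b ((D.map a).appTop t)
    refine ⟨r, ?_⟩
    rw [← c.w b, Scheme.Hom.comp_appTop, CommRingCat.comp_apply, hr, ← c.w a, Scheme.Hom.comp_appTop,
      CommRingCat.comp_apply]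
  obtain ⟨s, hs⟩ : (RingHom.ker (c.π.app o).appTop.hom).FG := by
    letI : Algebra Γ(D.obj o, ⊤) Γ(c.pt, ⊤) := (c.π.app o).appTop.hom.toAlgebra
    haveI : Algebra.FinitePresentation Γ(D.obj o, ⊤) Γ(c.pt, ⊤) := hfp'
    exact Algebra.FinitePresentation.ker_fG_of_surjective (Algebra.ofId Γ(D.obj o, ⊤) Γ(c.pt, ⊤)) hsurj'
  have hk : ∀ z ∈ s, ∃ (j : J) (a : j ⟶ o), (D.map a).appTop z = 0 := fun z hz => by
    refine exists_appTop_map_eq_zero_of_isAffine_of_isLimit D c hc o z ?_
    have : z ∈ RingHom.ker (c.π.app o).appTop.hom := hs ▸ Ideal.subset_span hz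
    exact this
  choose j a hj using hk
  classical
  obtain ⟨l, fl, hl⟩ : ∃ (l : J) (fl : l ⟶ o), ∀ z ∈ s, (D.map fl).appTop z = 0 := by
    let x : ∀ z : s, j z.1 z.2 ⟶ o := fun z => a z.1 z.2
    obtain ⟨l, fl, gl, hl⟩ := IsCofiltered.wideCospan x
    refine ⟨l, fl, fun z hz => ?_⟩
    rw [← hl ⟨z, hz⟩, D.map_comp, Scheme.Hom.comp_appTop, CommRingCat.comp_apply]
    show (D.map (gl ⟨z, hz⟩)).appTop ((D.map (a z hz)).appTop z) = 0
    rw [hj, map_zero]
  refine ⟨l, fl, fun k ψ => ?_⟩
  have hker : RingHom.ker (c.π.app o).appTop.hom ≤ RingHom.ker (D.map (ψ ≫ fl)).appTop.hom := by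
    rw [← hs, Ideal.span_le]
    intro z hz
    show (D.map (ψ ≫ fl)).appTop z = 0
    rw [D.map_comp, Scheme.Hom.comp_appTop, CommRingCat.comp_apply, hl z hz, map_zero]
  have he : c.π.app o = c.π.app k ≫ D.map (ψ ≫ fl) := (c.w _).symm
  have hb : Function.Bijective (c.π.app k).appTop := by
    refine ⟨(injective_iff_map_eq_zero _).2 fun z hz => ?_, fun z => ?_⟩
    · obtain ⟨r, rfl⟩ := hsurj (ψ ≫ fl) z
      refine hker (?_ : (c.π.app o).appTop r = 0)
      rw [he, Scheme.Hom.comp_appTop, CommRingCat.comp_apply, hz]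
    · obtain ⟨r, rfl⟩ := hsurj' z
      exact ⟨(D.map (ψ ≫ fl)).appTop r, by rw [he, Scheme.Hom.comp_appTop, CommRingCat.comp_apply]⟩
  haveI : IsClosedImmersion (c.π.app k) := IsClosedImmersion.of_surjective_of_isAffine _ hb.2
  exact IsClosedImmersion.isIso_of_injective_of_isAffine hb.1

variable {S : Scheme.{u}} {I : Type u} [SmallCategory I] [IsCofiltered I] {D : I ⥤ Sp S}
  {c : Cone D}

/-- A limit along closed immersions of finite presentation over a base is reached at a stage. -/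
theorem exists_stage_isIso (hD : ∀ i, IsAlgSpace (D.obj i))
    (hDc : ∀ (i j : I) (φ : i ⟶ j), RepWith @IsClosedImmersion (D.map φ)) (hc : IsLimit c)
    (hqc : ∀ i, IsQuasiCompactSp (D.obj i)) {B : Sp S} (hB : IsAlgSpace B) {i₁ : I} (t : D.obj i₁ ⟶ B)
    (hft : LocP @LocallyOfFiniteType t) (hX : LocP @LocallyOfFinitePresentation (c.π.app i₁ ≫ t)) :
    ∃ i₀ : I, ∀ (i : I) (_ : i ⟶ i₀), IsIso (c.π.app i) := by
  have hDa : ∀ (i j : I) (φ : i ⟶ j), IsAffineMor (D.map φ) := fun i j φ =>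
    isAffineMor_of_isClosedImmersion (hDc i j φ)
  obtain ⟨V, v, hV, hv, hvs⟩ := (isQuasiCompactSp_iff_affine (hD i₁)).1 (hqc i₁)
  obtain ⟨F, cF, p, hF, hp, ⟨hlim⟩, hio, θs, θ, hθs, hθ, hcomp, -⟩ := exists_chartSystem_compat hDa hc hV v
  haveI : ∀ k, IsAffine ((F ⋙ Over.forget S).obj k) := hF
  let o : Over i₁ := Over.mk (𝟙 i₁)
  haveI := hio
  haveI : IsIso (p o).left := inferInstanceAs (IsIso ((Over.forget S).map (p o)))
  have hπ : ∀ k : Over i₁, IsPullback θ ((yon S).map (cF.π.app k)) (c.π.app k.left) (θs k) := fun k => by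
    refine (IsPullback.of_right ?_ (hcomp k) (hθs k)).flip
    have he' : cF.π.app k ≫ p k = cF.π.app o ≫ p o := by
      rw [← hp (Over.homMk k.hom : k ⟶ o), ← Category.assoc, cF.w]
    rw [← Functor.map_comp, he', c.w]
    exact hθ
  have hcp := isAlgSpace_pt hD hDa hc
  have hl : LocP @LocallyOfFinitePresentation (c.π.app i₁) :=
    locP_of_comp (Q := @LocallyOfFinitePresentation) (R := @LocallyOfFiniteType) hcp (hD i₁) hB hX hft
      fun _ _ _ k m hk hm => locallyOfFinitePresentation_of_comp k m hk hm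
  have hev : RepWith @Etale (θs o) := repWith_baseChange (hθs o) hv
  have hfp : LocallyOfFinitePresentation (cF.π.app o).left :=
    hl θ (θs o) _ (repWith_baseChange (hπ o).flip hev) hev (hπ o).w
  have hcl : ∀ (j : Over i₁) (a : j ⟶ o), IsClosedImmersion ((F ⋙ Over.forget S).map a) := fun j a => by
    have h1 : IsClosedImmersion (p j).left := (hDc _ _ j.hom).2 v (θs j) (p j) (hθs j).flip
    have h2 : (F.map a).left = (p j).left ≫ inv (p o).left := by
      rw [← hp a, Over.comp_left, Category.assoc, IsIso.hom_inv_id, Category.comp_id]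
    show IsClosedImmersion (F.map a).left
    rw [h2]
    infer_instance
  obtain ⟨j, -, hj⟩ := exists_stage_isIso_π hlim hcl hfp
  refine ⟨j.left, fun i φ => ?_⟩
  let k : Over i₁ := Over.mk (φ ≫ j.hom)
  have hk : MorphismProperty.isomorphisms Scheme.{u} (cF.π.app k).left := hj k (Over.homMk φ)
  exact isIso_of_repWith_isomorphisms (repWith_of_chart_isPullback (hD i)
    (repWith_isAffineHom_of_isAffineMor (isAffineMor_π hDa hc i)).1 (repWith_baseChange (hθs k) hv)
    (repWith_baseChange (hθs k) hvs) (hπ k) hk)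

end Groth.Agent.AlgSpLimDesc
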