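import Groth.Agent.AlgSpLimDesc.Limit
import Groth.Agent.AlgSpFin.OpenSubspace
import Groth.Agent.AlgSpFin.FinitePiece
import Groth.Agent.AlgSpLib.Compact
import Groth.Agent.AlgSpFin.ImmersionTop

/-!
Quasi-compact opens of a limit of algebraic spaces come from a stage; open subspaces are determined
by their points.
-/

set_option autoImplicit false
set_option backward.isDefEq.respectTransparency.types false

universe u

open CategoryTheory CategoryTheory.Limits AlgebraicGeometry AlgSp
open Groth.Agent.AlgSpLib Groth.Agent.AlgSpPts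

namespace Groth.Agent.AlgSpLimDesc

variable {S : Scheme.{u}}

theorem mono_of_repWith_isOpenImmersion {X' X : Sp S} {j : X' ⟶ X} (hj : RepWith @IsOpenImmersion j) : Mono j :=
  mono_of_repWith hj fun _ _ k hk => by
    have : IsOpenImmersion k := hk
    infer_instance

/-- An open immersion onto the preimage of an open subspace is its base change. -/
theorem isPullback_of_range_preimage {U Ui X Y : Sp S} {j : U ⟶ X} {ji : Ui ⟶ Y} {π : X ⟶ Y}
    (hj : RepWith @IsOpenImmersion j) (hji : RepWith @IsOpenImmersion ji)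
    (h : Set.range (Points.map j) = Points.map π ⁻¹' Set.range (Points.map ji)) :
    ∃ q : U ⟶ Ui, IsPullback j q π ji := by
  have := mono_of_repWith_isOpenImmersion hj
  have := mono_of_repWith_isOpenImmersion hji
  have sP := IsPullback.of_hasPullback π ji
  have : Mono (pullback.fst π ji) := MorphismProperty.pullback_fst (P := MorphismProperty.monomorphisms (Sp S)) _ _ ‹Mono ji›
  have s₁ := IsPullback.of_hasPullback (j ≫ π) ji
  have : Mono (pullback.fst (j ≫ π) ji) := MorphismProperty.pullback_fst (P := MorphismProperty.monomorphisms (Sp S)) _ _ ‹Mono ji›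
  have : IsIso (pullback.fst (j ≫ π) ji) := isIso_of_mono_of_lifts _ fun T g => by
    obtain ⟨l, hl⟩ := AlgSpFin.exists_factor_of_range hji (g ≫ j ≫ π) fun t => by
      have hm : Points.map j (Points.ofPt g t) ∈ Set.range (Points.map j) := ⟨_, rfl⟩
      rw [h, Set.mem_preimage, Points.map_ofPt, Points.map_ofPt, Category.assoc] at hm
      exact hm
    exact ⟨s₁.lift g l hl.symm, s₁.lift_fst _ _ _⟩
  let q : U ⟶ Ui := inv (pullback.fst (j ≫ π) ji) ≫ pullback.snd (j ≫ π) ji
  have w : j ≫ π = q ≫ ji := by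
    rw [Category.assoc, ← pullback.condition, IsIso.inv_hom_id_assoc]
  let e := sP.lift j q w
  have he : e ≫ pullback.fst π ji = j := sP.lift_fst _ _ _
  have : Mono (e ≫ pullback.fst π ji) := by rw [he]; infer_instance
  have : Mono e := mono_of_mono e (pullback.fst π ji)
  have : IsIso e := isIso_of_mono_of_lifts e fun T g => by
    obtain ⟨l, hl⟩ := AlgSpFin.exists_factor_of_range hj (g ≫ pullback.fst π ji) fun t => by
      rw [h, Set.mem_preimage, Points.map_ofPt, Category.assoc, pullback.condition]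
      exact ⟨Points.ofPt (g ≫ pullback.snd π ji) t, by rw [Points.map_ofPt, Category.assoc]⟩
    exact ⟨l, by rw [← cancel_mono (pullback.fst π ji), Category.assoc, he, hl]⟩
  exact ⟨q, sP.of_iso (asIso e).symm (Iso.refl _) (Iso.refl _) (Iso.refl _)
    (by simp [e]) (by simp [e]) (by simp) (by simp)⟩

variable {I : Type u} [SmallCategory I] [IsCofiltered I] {D : I ⥤ Sp S} {c : Cone D}

/-- A quasi-compact open subspace of a limit is the preimage of one at a stage. -/
theorem exists_open_stage [QuasiSeparatedSpace ↥S] (hD : ∀ i, IsAlgSpace (D.obj i))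
    (hDa : ∀ (i j : I) (φ : i ⟶ j), IsAffineMor (D.map φ)) (hqc : ∀ i, IsQuasiCompactSp (D.obj i))
    (hqs : ∀ i, IsQuasiSeparatedSp (D.obj i)) (hc : IsLimit c)
    {U : Sp S} {j : U ⟶ c.pt} (hj : RepWith @IsOpenImmersion j) (hU : IsQuasiCompactSp U) :
    ∃ (i : I) (Ui : Sp S) (ji : Ui ⟶ D.obj i) (q : U ⟶ Ui),
      RepWith @IsOpenImmersion ji ∧ IsQuasiCompactSp Ui ∧ IsPullback j q (c.π.app i) ji := by
  obtain ⟨i₀⟩ := IsCofiltered.nonempty (C := I)
  obtain ⟨V, v, hV, hv, hvs⟩ := (isQuasiCompactSp_iff_affine (hD i₀)).1 (hqc i₀)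
  have hcp := isAlgSpace_pt hD hDa hc
  obtain ⟨F, cF, p, hF, hp, ⟨hlim⟩, -, θs, θ, hθs, hθ, hcomp, -⟩ := exists_chartSystem_compat hDa hc hV v
  haveI : ∀ k, IsAffine ((F ⋙ Over.forget S).obj k) := hF
  haveI : ∀ {k l : Over i₀} (φ : k ⟶ l), IsAffineHom ((F ⋙ Over.forget S).map φ) := fun φ => inferInstance
  haveI : IsAffine cF.pt.left := Scheme.isAffine_of_isLimit _ hlim
  obtain ⟨E, e, a, sE⟩ := hj.1 θ
  have : IsOpenImmersion e.left := hj.2 θ a e sE
  have hUqs : IsQuasiCompactMor θ := by
    have hvq : IsQuasiCompactMor v :=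
      isQuasiCompactMor_of_qcqs (IsAlgSpace.yon_obj V) (hD i₀) v (isQuasiCompactSp_yon V inferInstance) (hqs i₀)
    intro Z Z' hZ hZc g fst snd sq
    exact hvq hZ hZc (g ≫ c.π.app i₀) _ _ (sq.paste_horiz hθ.flip.flip.flip.flip.flip.flip)
  haveI : CompactSpace E.left := by
    have hEc := hUqs (isAlgSpace_of_representable hcp hj.1) hU j _ _ sE.flip
    haveI := compactSpace_points_of_isQuasiCompactSp hEc
    exact (Points.schemeHomeo E).symm.compactSpace
  obtain ⟨k, O, hOc, hO⟩ := exists_preimage_eq (F ⋙ Over.forget S) ((Over.forget S).mapCone cF) hlim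
    e.left.opensRange (isCompact_range e.left.continuous)
  let i := k.left
  let bk : (yon S).obj (F.obj k) ⟶ D.obj i := θs k
  have hbk : RepWith @Etale bk := repWith_baseChange (hθs k) hv
  have hWo : IsOpen (Points.ofPt bk '' O.1) := isOpenMap_ofPt_of_etale hbk _ O.isOpen
  obtain ⟨Ui, ji, hji, hr⟩ := AlgSpFin.exists_open_subspace ⟨D.obj i, hD i⟩ _ hWo
  have hsqk : IsPullback ((yon S).map (cF.π.app k)) θ bk (c.π.app i) := by
    refine IsPullback.of_right ?_ (hcomp k) (hθs k).flip.flip
    have e : cF.π.app k ≫ p k = cF.π.app (Over.mk (𝟙 i₀)) ≫ p (Over.mk (𝟙 i₀)) := by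
      have h1 := hp (Over.homMk k.hom : k ⟶ Over.mk (𝟙 i₀))
      rw [← h1, ← Category.assoc, cF.w]
    rw [← Functor.map_comp, e, c.w]
    exact hθ
  refine ⟨i, Ui.obj, ji.hom, ?_⟩
  have hpre : Set.range (Points.map j) = Points.map (c.π.app i) ⁻¹' Set.range (Points.map ji.hom) := by
    rw [hr]
    ext x
    constructor
    · rintro ⟨u, rfl⟩
      obtain ⟨t, ht⟩ := surjective_ofPt (repWith_baseChange hθ hvs) (Points.map j u)
      have htE : t ∈ e.left.opensRange := by
        obtain ⟨z, -, hz⟩ := exists_point_of_isPullback sE u (Points.ofPt (𝟙 _) t)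
          (by rw [← ht, Points.map_ofPt, Category.id_comp])
        obtain ⟨w, rfl⟩ := exists_ofScheme z
        refine ⟨w, (Points.schemeEquiv _).injective ?_⟩
        show Points.ofPt (𝟙 _) (e.left w) = Points.ofPt (𝟙 _) t
        rw [← ofPt_comp, Category.comp_id]
        rw [Points.map_ofPt, Category.id_comp] at hz
        exact hz
      rw [← hO] at htE
      refine ⟨(cF.π.app k).left t, htE, ?_⟩
      rw [← ht, Points.map_ofPt, ← hsqk.w, ofPt_comp]
    · rintro ⟨o, ho, hxo⟩
      obtain ⟨z, hz₁, hz₂⟩ := exists_point_of_isPullback hsqk (Points.ofPt (𝟙 _) o) x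
        (by rw [Points.map_ofPt, Category.id_comp, hxo])
      obtain ⟨t, rfl⟩ := exists_ofScheme z
      have ht : (cF.π.app k).left t = o := (Points.schemeEquiv _).injective (by
        show Points.ofPt (𝟙 _) ((cF.π.app k).left t) = Points.ofPt (𝟙 _) o
        rw [← ofPt_comp, Category.comp_id, ← hz₁, Points.map_ofPt, Category.id_comp])
      obtain ⟨w, hw⟩ : t ∈ e.left.opensRange := by
        rw [← hO]
        show (cF.π.app k).left t ∈ O
        rw [ht]; exact ho
      refine ⟨Points.ofPt a w, ?_⟩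
      rw [← hz₂, Points.map_ofPt, Points.map_ofPt, Category.id_comp, sE.w, ofPt_comp, hw]
  obtain ⟨q, hq⟩ := isPullback_of_range_preimage hj hji hpre
  refine ⟨q, hji, ?_, hq⟩
  rw [isQuasiCompactSp_iff_compactSpace Ui.property]
  have hind : Topology.IsInducing (Points.map ji.hom) := (AlgSpFin.isEmbedding_map_of_immersion (i := ji.hom) (hD i)
    ⟨hji.1, fun A B g fst snd sq => by (have : IsOpenImmersion snd.left := hji.2 g fst snd sq; exact (inferInstance : IsImmersion snd.left))⟩).1.isInducing
  rw [← isCompact_univ_iff, hind.isCompact_iff, Set.image_univ, hr]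
  exact hOc.image (Points.continuous_ofPt bk)

end Groth.Agent.AlgSpLimDesc
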