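import Groth.Agent.AlgSpLimDesc.IsoStage
import Groth.Agent.AlgSpLib.AffineRep

/-!
Affine morphisms of algebraic spaces are separated; monomorphisms into a limit come from a stage.
-/

set_option autoImplicit false
set_option backward.isDefEq.respectTransparency.types false

universe u

open CategoryTheory CategoryTheory.Limits AlgebraicGeometry AlgSp
open Groth.Agent.AlgSpLib Groth.Agent.AlgSpPts

namespace Groth.Agent.AlgSpLimDesc

variable {S : Scheme.{u}}

section

variable {A B C A' B' C' : Sp S} {f : A ⟶ C} {g : B ⟶ C} {f' : A' ⟶ C'} {g' : B' ⟶ C'} {i₁ : A ⟶ A'}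
  {i₂ : B ⟶ B'} {i₃ : C ⟶ C'} {e₁ : f ≫ i₃ = i₁ ≫ f'} {e₂ : g ≫ i₃ = i₂ ≫ g'}

theorem pullbackMap_fst : pullback.map f g f' g' i₁ i₂ i₃ e₁ e₂ ≫ pullback.fst f' g' = pullback.fst f g ≫ i₁ :=
  pullback.lift_fst _ _ _

theorem pullbackMap_snd : pullback.map f g f' g' i₁ i₂ i₃ e₁ e₂ ≫ pullback.snd f' g' = pullback.snd f g ≫ i₂ :=
  pullback.lift_snd _ _ _

theorem pullbackMap_fst_assoc {E : Sp S} (h : A' ⟶ E) :
    pullback.map f g f' g' i₁ i₂ i₃ e₁ e₂ ≫ pullback.fst f' g' ≫ h = pullback.fst f g ≫ i₁ ≫ h :=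
  pullback.lift_fst_assoc _ _ _ _

theorem pullbackMap_snd_assoc {E : Sp S} (h : B' ⟶ E) :
    pullback.map f g f' g' i₁ i₂ i₃ e₁ e₂ ≫ pullback.snd f' g' ≫ h = pullback.snd f g ≫ i₂ ≫ h :=
  pullback.lift_snd_assoc _ _ _ _

end

/-- Affine morphisms are separated. -/
theorem isSeparatedMor_of_isAffineMor {X Y : Sp S} (hX : IsAlgSpace X) (hY : IsAlgSpace Y) {f : X ⟶ Y}
    (hf : IsAffineMor f) : IsSeparatedMor f := by
  have := Groth.Agent.FpqcDescent.isClosedImmersion_descendsAlong.{u}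
  refine (repWith_diagonal_iff_affine hX hY f).2 fun Z hZ g P fst snd sq => ?_
  obtain ⟨W, i, fst', sq', hW⟩ := hf hZ g
  haveI := hW; haveI := hZ
  let l := sq'.lift fst snd sq.w
  have h1 : IsPullback l snd ((yon S).map i) (𝟙 _) :=
    IsPullback.of_right (by simpa [l] using sq) (sq'.lift_snd _ _ _ |>.trans (Category.comp_id snd).symm) sq'
  exact repWith_diagonal_baseChange h1 ((isSeparatedMor_yon_map_iff i).2 inferInstance)

variable {I : Type u} [SmallCategory I] [IsCofiltered I] {D : I ⥤ Sp S} {c : Cone D}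

/-- Monomorphisms into a limit, of finite type over a base, are monomorphisms into a stage. -/
theorem exists_stage_mono_comp [QuasiSeparatedSpace ↥S] (hD : ∀ i, IsAlgSpace (D.obj i))
    (hDa : ∀ (i j : I) (φ : i ⟶ j), IsAffineMor (D.map φ)) (hc : IsLimit c)
    (hqs : ∀ i, IsQuasiSeparatedSp (D.obj i)) {B Y : Sp S} (hB : IsAlgSpace B) (hY : IsAlgSpace Y)
    (hYqc : IsQuasiCompactSp Y) (y : Y ⟶ c.pt) [Mono y] {i₁ : I} (t : D.obj i₁ ⟶ B)
    (hYB : LocP @LocallyOfFiniteType (y ≫ c.π.app i₁ ≫ t)) :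
    ∃ i₀ : I, ∀ (i : I) (_ : i ⟶ i₀), Mono (y ≫ c.π.app i) := by
  let yk : ∀ k : Over i₁, Y ⟶ D.obj k.left := fun k => y ≫ c.π.app k.left
  have hyk : ∀ {k j : Over i₁} (a : k ⟶ j), yk k ≫ D.map a.left = yk j := fun a => by
    simp only [yk, Category.assoc, c.w]
  let R : Over i₁ ⥤ Sp S :=
    { obj := fun k => pullback (yk k) (yk k)
      map := fun {k j} a => pullback.map _ _ _ _ (𝟙 Y) (𝟙 Y) (D.map a.left)
        (by rw [Category.id_comp, hyk]) (by rw [Category.id_comp, hyk])
      map_id := fun k => by apply pullback.hom_ext <;> simp [pullbackMap_fst, pullbackMap_snd, pullbackMap_fst_assoc, pullbackMap_snd_assoc]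
      map_comp := fun a b => by apply pullback.hom_ext <;> simp [pullbackMap_fst, pullbackMap_snd, pullbackMap_fst_assoc, pullbackMap_snd_assoc] }
  let o : Over i₁ := Over.mk (𝟙 i₁)
  have hR₁ : ∀ k, IsAlgSpace (R.obj k) := fun k => isAlgSpace_pullback _ _ hY hY (hD k.left)
  have hR₂ : ∀ (k j : Over i₁) (a : k ⟶ j), RepWith @IsClosedImmersion (R.map a) := fun k j a => by
    have hs := isSeparatedMor_of_isAffineMor (hD k.left) (hD j.left) (hDa _ _ a.left)
    let m : pullback (yk k) (yk k) ⟶ pullback (yk k ≫ D.map a.left) (yk k ≫ D.map a.left) :=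
      pullback.map _ _ _ _ (𝟙 Y) (𝟙 Y) (D.map a.left) (Category.id_comp _).symm (Category.id_comp _).symm
    have hm : RepWith @IsClosedImmersion m :=
      repWith_baseChange (pullback_map_diagonal_isPullback (yk k) (yk k) (D.map a.left)) hs
    have hm' : R.map a = m ≫ (pullback.congrHom (hyk a) (hyk a)).hom := by
      apply pullback.hom_ext <;> simp [R, m, pullbackMap_fst, pullbackMap_snd, pullbackMap_fst_assoc, pullbackMap_snd_assoc]
    rw [hm']
    exact (MorphismProperty.cancel_right_of_respectsIso (RepWith (S := S) @IsClosedImmersion.{u}) m _).2 hm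
  let cR : Cone R :=
    { pt := Y
      π :=
        { app := fun k => pullback.diagonal (yk k)
          naturality := fun k j a => by apply pullback.hom_ext <;> simp [R, pullbackMap_fst, pullbackMap_snd, pullbackMap_fst_assoc, pullbackMap_snd_assoc] } }
  let f : ∀ s : Cone R, s.pt ⟶ Y := fun s => s.π.app o ≫ pullback.fst _ _
  have hf₁ : ∀ (s : Cone R) k, s.π.app k ≫ pullback.fst (yk k) (yk k) = f s := fun s k => by
    have := congrArg (· ≫ pullback.fst (yk o) (yk o)) (s.w (Over.homMk k.hom : k ⟶ o))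
    simpa [R, f, pullbackMap_fst, pullbackMap_snd, pullbackMap_fst_assoc, pullbackMap_snd_assoc] using this
  have hf₂ : ∀ (s : Cone R) k, s.π.app k ≫ pullback.snd (yk k) (yk k) = f s := fun s k => by
    have h : ∀ k, s.π.app k ≫ pullback.snd (yk k) (yk k) = s.π.app o ≫ pullback.snd (yk o) (yk o) := fun k => by
      have := congrArg (· ≫ pullback.snd (yk o) (yk o)) (s.w (Over.homMk k.hom : k ⟶ o))
      simpa [R, pullbackMap_fst, pullbackMap_snd, pullbackMap_fst_assoc, pullbackMap_snd_assoc] using this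
    rw [h k, ← cancel_mono y]
    refine ((Functor.Initial.isLimitWhiskerEquiv (Over.forget i₁) c).symm hc).hom_ext fun k => ?_
    show ((s.π.app o ≫ pullback.snd (yk o) (yk o)) ≫ y) ≫ c.π.app k.left = (f s ≫ y) ≫ c.π.app k.left
    rw [← h k, ← hf₁ s k, Category.assoc, Category.assoc, Category.assoc, Category.assoc]
    show s.π.app k ≫ pullback.snd (yk k) (yk k) ≫ yk k = s.π.app k ≫ pullback.fst (yk k) (yk k) ≫ yk k
    rw [pullback.condition]
  have hcR : IsLimit cR :=
    { lift := f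
      fac := fun s k => pullback.hom_ext (by simp [cR, hf₁]) (by simp [cR, hf₂])
      uniq := fun s m hm => by
        rw [← hf₁ s o, ← hm o]
        simp [cR] }
  have hqc : ∀ k, IsQuasiCompactSp (R.obj k) := fun k =>
    isQuasiCompactMor_of_qcqs hY (hD k.left) (yk k) hYqc (hqs k.left) hY hYqc (yk k) _ _
      (IsPullback.of_hasPullback _ _)
  have hyl : LocP @LocallyOfFiniteType (yk o) :=
    locP_of_comp (Q := @LocallyOfFiniteType) (R := (⊤ : MorphismProperty Scheme.{u})) hY (hD i₁) hB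
      (g := t) (by simpa [yk, o] using hYB) (locP_top t)
      fun _ _ _ k m hk _ => @locallyOfFiniteType_of_comp _ _ _ k m hk
  have hid : LocP @LocallyOfFiniteType (𝟙 (R.obj o)) := fun U V a b q ha hb w => by
    rw [Category.comp_id] at w
    exact EtLocal.of_etale (P := @LocallyOfFiniteType) _ (etale_of_comp_chart ha hb q w.symm)
  have hX : LocP @LocallyOfFinitePresentation (cR.π.app o ≫ 𝟙 _) := by
    rw [Category.comp_id]
    exact (locP_iff_repWith (hR₁ o) (representable_diagonal hY _)).2 (repWith_lfp_diagonal hY (hD i₁) hyl)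
  obtain ⟨j, hj⟩ := exists_stage_isIso hR₁ hR₂ hcR hqc (hR₁ o) (𝟙 _) hid hX
  refine ⟨j.left, fun i φ => ?_⟩
  have : IsIso (pullback.diagonal (yk (Over.mk (φ ≫ j.hom)))) := hj _ (Over.homMk φ)
  exact (pullback.isIso_diagonal_iff (y ≫ c.π.app i)).1 this

end Groth.Agent.AlgSpLimDesc
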