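import Groth.Agent.AlgSpLimDesc.Sep
import Groth.Agent.AlgSpLimDesc.ClosedSystem

/-!
Separatedness of a limit of algebraic spaces with affine transition maps comes from a stage.
-/

set_option autoImplicit false
set_option backward.isDefEq.respectTransparency.types false

universe u

open CategoryTheory CategoryTheory.Limits AlgebraicGeometry AlgSp
open Groth.Agent.AlgSpLib Groth.Agent.AlgSpPts

attribute [local instance] IsCofiltered.isConnected

namespace Groth.Agent.AlgSpLimDesc

variable {S : Scheme.{u}}

theorem isAffineMor_of_repWith_isAffineHom {F G : Sp S} {f : F ⟶ G}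
    (hf : RepWith @IsAffineHom f) : IsAffineMor f := by
  intro Z hZ g
  obtain ⟨W, i, fst, sq⟩ := hf.1 g
  haveI : IsAffineHom i.left := hf.2 g fst i sq
  haveI := hZ
  exact ⟨W, i, fst, sq, isAffine_of_isAffineHom i.left⟩

/-- The square of a map under the self fibre products. -/
theorem repWith_map_selfPullback {P : MorphismProperty Scheme.{u}} [P.IsStableUnderBaseChange]
    [P.IsStableUnderComposition] {A B Y : Sp S} (φ : A ⟶ B) (tA : A ⟶ Y) (tB : B ⟶ Y) (h : φ ≫ tB = tA)
    (hφ : RepWith P φ) :
    RepWith P (pullback.map tA tA tB tB φ φ (𝟙 Y) (by simp [h]) (by simp [h])) := by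
  subst h
  let m₁ : pullback (φ ≫ tB) (φ ≫ tB) ⟶ pullback tB (φ ≫ tB) :=
    pullback.map _ _ _ _ φ (𝟙 A) (𝟙 Y) (by simp) (by simp)
  let m₂ : pullback tB (φ ≫ tB) ⟶ pullback tB tB :=
    pullback.map _ _ _ _ (𝟙 B) φ (𝟙 Y) (by simp) (by simp)
  have e : pullback.map (φ ≫ tB) (φ ≫ tB) tB tB φ φ (𝟙 Y) (by simp) (by simp) = m₁ ≫ m₂ := by
    apply pullback.hom_ext <;>
      simp [m₁, m₂, pullbackMap_fst, pullbackMap_snd, pullbackMap_fst_assoc, pullbackMap_snd_assoc]
  rw [e]
  refine repWith_comp (repWith_baseChange (f := φ) (g := pullback.fst tB (φ ≫ tB)) (fst := pullback.fst _ _) ?_ hφ)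
    (repWith_baseChange (f := φ) (g := pullback.snd tB tB) (fst := pullback.snd _ _) ?_ hφ)
  · refine IsPullback.of_bot ?_ pullbackMap_fst.symm (IsPullback.of_hasPullback tB (φ ≫ tB))
    rw [pullbackMap_snd, Category.comp_id]
    exact IsPullback.of_hasPullback _ _
  · refine (IsPullback.of_right ?_ pullbackMap_snd (IsPullback.of_hasPullback tB tB)).flip
    rw [pullbackMap_fst, Category.comp_id]
    exact IsPullback.of_hasPullback tB (φ ≫ tB)

/-- The map from the source to the base change of the diagonal is the diagonal of a map. -/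
theorem repWith_lift_diagonal {A B Y Q : Sp S} {φ : A ⟶ B} {tA : A ⟶ Y} {tB : B ⟶ Y} (h : φ ≫ tB = tA)
    (hs : IsSeparatedMor φ) {fst : Q ⟶ B} {snd : Q ⟶ pullback tA tA}
    (sq : IsPullback fst snd (pullback.diagonal tB)
      (pullback.map tA tA tB tB φ φ (𝟙 Y) (by simp [h]) (by simp [h])))
    {ψ : A ⟶ Q} (h₁ : ψ ≫ fst = φ) (h₂ : ψ ≫ snd = pullback.diagonal tA) :
    RepWith @IsClosedImmersion ψ := by
  subst h
  let e := (pullback_map_diagonal_isPullback φ φ tB).isoIsPullback _ _ sq
  have he : ψ = pullback.diagonal φ ≫ e.hom := by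
    apply sq.hom_ext
    · rw [h₁, Category.assoc, IsPullback.isoIsPullback_hom_fst, pullback.diagonal_fst_assoc]
    · rw [h₂, Category.assoc, IsPullback.isoIsPullback_hom_snd]
      apply pullback.hom_ext <;>
        simp [pullbackMap_fst, pullbackMap_snd, pullbackMap_fst_assoc, pullbackMap_snd_assoc]
  rw [he]
  exact (MorphismProperty.cancel_right_of_respectsIso (RepWith (S := S) @IsClosedImmersion.{u}) _ _).2 hs

variable {I : Type u} [SmallCategory I] [IsCofiltered I] {D : I ⥤ Sp S} {c : Cone D}

/-- Separatedness of a limit over a quasi-separated space comes from a stage. -/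
theorem exists_stage_isSeparatedMor [QuasiSeparatedSpace ↥S] (hD : ∀ i, IsAlgSpace (D.obj i))
    (hDa : ∀ (i j : I) (φ : i ⟶ j), IsAffineMor (D.map φ)) (hc : IsLimit c) {Y : Sp S} (hY : IsAlgSpace Y)
    (hYqs : IsQuasiSeparatedSp Y) (t : ∀ i, D.obj i ⟶ Y) (ht : ∀ {i j} (φ : i ⟶ j), D.map φ ≫ t j = t i)
    (g : c.pt ⟶ Y) (hg : ∀ i, c.π.app i ≫ t i = g)
    (hqc : ∀ i, IsQuasiCompactSp (D.obj i)) (hqs : ∀ i, IsQuasiSeparatedSp (D.obj i))
    (hX : IsSeparatedMor g) :
    ∃ i₀ : I, ∀ (i : I) (_ : i ⟶ i₀), IsSeparatedMor (t i) := by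
  obtain ⟨i₁⟩ := IsCofiltered.nonempty (C := I)
  let R : I ⥤ Sp S :=
    { obj := fun i => pullback (t i) (t i)
      map := fun {i j} φ => pullback.map _ _ _ _ (D.map φ) (D.map φ) (𝟙 Y)
        (by rw [Category.comp_id, ht]) (by rw [Category.comp_id, ht])
      map_id := fun k => by
        apply pullback.hom_ext <;> simp [pullbackMap_fst, pullbackMap_snd]
      map_comp := fun a b => by
        apply pullback.hom_ext <;>
          simp [pullbackMap_fst, pullbackMap_snd, pullbackMap_fst_assoc, pullbackMap_snd_assoc] }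
  have hR : ∀ i, IsAlgSpace (R.obj i) := fun i => isAlgSpace_pullback _ _ (hD i) (hD i) hY
  have hRa : ∀ (i j : I) (φ : i ⟶ j), IsAffineMor (R.map φ) := fun i j φ =>
    isAffineMor_of_repWith_isAffineHom (repWith_map_selfPullback (D.map φ) (t i) (t j) (ht φ)
      (repWith_isAffineHom_of_isAffineMor (hDa i j φ)))
  let cR : Cone R :=
    { pt := pullback g g
      π :=
        { app := fun i => pullback.map g g (t i) (t i) (c.π.app i) (c.π.app i) (𝟙 Y)
            (by rw [Category.comp_id, hg]) (by rw [Category.comp_id, hg])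
          naturality := fun i j φ => by
            apply pullback.hom_ext <;>
              simp [R, pullbackMap_fst, pullbackMap_snd, pullbackMap_fst_assoc, pullbackMap_snd_assoc] } }
  let c₁ : Cone R → Cone D := fun s =>
    { pt := s.pt
      π :=
        { app := fun i => s.π.app i ≫ pullback.fst _ _
          naturality := fun i j φ => by
            simp only [Functor.const_obj_map, Category.id_comp, Category.assoc]
            rw [← s.w φ]
            simp [R, pullbackMap_fst] } }
  let c₂ : Cone R → Cone D := fun s =>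
    { pt := s.pt
      π :=
        { app := fun i => s.π.app i ≫ pullback.snd _ _
          naturality := fun i j φ => by
            simp only [Functor.const_obj_map, Category.id_comp, Category.assoc]
            rw [← s.w φ]
            simp [R, pullbackMap_snd] } }
  have hcR₁ : ∀ i, cR.π.app i ≫ pullback.fst (t i) (t i) = pullback.fst g g ≫ c.π.app i := fun i => by
    simp [cR, pullbackMap_fst]
  have hcR₂ : ∀ i, cR.π.app i ≫ pullback.snd (t i) (t i) = pullback.snd g g ≫ c.π.app i := fun i => by
    simp [cR, pullbackMap_snd]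
  have hcR : IsLimit cR :=
    { lift := fun s => pullback.lift (hc.lift (c₁ s)) (hc.lift (c₂ s)) (by
        rw [← hg i₁, ← Category.assoc, hc.fac, ← Category.assoc, hc.fac]
        show (s.π.app i₁ ≫ pullback.fst _ _) ≫ t i₁ = (s.π.app i₁ ≫ pullback.snd _ _) ≫ t i₁
        rw [Category.assoc, Category.assoc, pullback.condition])
      fac := fun s i => by
        apply pullback.hom_ext
        · rw [Category.assoc, hcR₁, pullback.lift_fst_assoc]
          exact hc.fac (c₁ s) i
        · rw [Category.assoc, hcR₂, pullback.lift_snd_assoc]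
          exact hc.fac (c₂ s) i
      uniq := fun s m hm => by
        apply pullback.hom_ext <;> refine hc.hom_ext fun i => ?_
        · rw [pullback.lift_fst, hc.fac, Category.assoc]
          simp [c₁, ← hm i, cR, pullbackMap_fst]
        · rw [pullback.lift_snd, hc.fac, Category.assoc]
          simp [c₂, ← hm i, cR, pullbackMap_snd] }
  obtain ⟨hRc, -⟩ := qcqs_of_isPullback (hD i₁) hY (hD i₁) (IsPullback.of_hasPullback (t i₁) (t i₁))
    (hqc i₁) (hqs i₁) hYqs (hqc i₁) (hqs i₁)
  obtain ⟨V, v, hV, hv, hvs⟩ := (isQuasiCompactSp_iff_affine (hR i₁)).1 hRc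
  obtain ⟨F, cF, p, hF, hp, ⟨hlim⟩, hio, θs, θ, hθs, hθ, hcomp, hnat⟩ := exists_chartSystem_compat hRa hcR hV v
  haveI : ∀ k, IsAffine ((F ⋙ Over.forget S).obj k) := hF
  have hlimO : IsLimit cF := isLimitOfReflects (Over.forget S) hlim
  let o : Over i₁ := Over.mk (𝟙 i₁)
  have hπ : ∀ k : Over i₁, IsPullback ((yon S).map (cF.π.app k)) θ (θs k) (cR.π.app k.left) := fun k => by
    refine IsPullback.of_right ?_ (hcomp k) (hθs k)
    have he' : cF.π.app k ≫ p k = cF.π.app o ≫ p o := by
      rw [← hp (Over.homMk k.hom : k ⟶ o), ← Category.assoc, cF.w]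
    rw [← Functor.map_comp, he', cR.w]
    exact hθ
  have hrep : ∀ k : Over i₁, ∃ (P : Over S) (q : P ⟶ F.obj k) (a : (yon S).obj P ⟶ D.obj k.left),
      IsPullback a ((yon S).map q) (pullback.diagonal (t k.left)) (θs k) := fun k =>
    (representable_diagonal (hD k.left) (t k.left)) (θs k)
  choose P q a sq using hrep
  have hΔ : ∀ {i j : I} (φ : i ⟶ j), pullback.diagonal (t i) ≫ R.map φ = D.map φ ≫ pullback.diagonal (t j) := by
    intro i j φ
    apply pullback.hom_ext <;> simp [R, pullbackMap_fst, pullbackMap_snd]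
  have hw : ∀ {k j : Over i₁} (b : k ⟶ j), (a k ≫ D.map b.left) ≫ pullback.diagonal (t j.left) =
      (yon S).map (q k ≫ F.map b) ≫ θs j := by
    intro k j b
    rw [Functor.map_comp, Category.assoc, Category.assoc, hnat, ← hΔ, ← Category.assoc, (sq k).w, Category.assoc]
  let m : ∀ {k j : Over i₁}, (k ⟶ j) → (P k ⟶ P j) := fun {k j} b => (yon S).preimage ((sq j).lift _ _ (hw b))
  have hm₁ : ∀ {k j : Over i₁} (b : k ⟶ j), (yon S).map (m b) ≫ a j = a k ≫ D.map b.left := fun b => by simp [m]
  have hm₂ : ∀ {k j : Over i₁} (b : k ⟶ j), m b ≫ q j = q k ≫ F.map b := fun b =>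
    (yon S).map_injective (by simp [m])
  have hm₂' : ∀ {k j : Over i₁} (b : k ⟶ j), (yon S).map (m b) ≫ (yon S).map (q j) =
      (yon S).map (q k) ≫ (yon S).map (F.map b) := fun b => by rw [← Functor.map_comp, hm₂, Functor.map_comp]
  let PF : Over i₁ ⥤ Over S :=
    { obj := P
      map := m
      map_id := fun k => (yon S).map_injective ((sq k).hom_ext (by simp [hm₁]) (by simp [hm₂']))
      map_comp := fun {k j l} b d => (yon S).map_injective ((sq l).hom_ext
        (by simp [hm₁, reassoc_of% (hm₁ b)]) (by simp [hm₂', reassoc_of% (hm₂' b)])) }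
  let f : PF ⋙ Over.forget S ⟶ F ⋙ Over.forget S :=
    { app := fun k => (q k).left
      naturality := fun k j b => congrArg (fun h => Over.Hom.left h) (hm₂ b) }
  haveI hqck : ∀ k, CompactSpace ((PF ⋙ Over.forget S).obj k) := fun k => by
    have h : QuasiCompact (q k).left := (isQuasiSeparatedMor_of_sp (t k.left) (hqs k.left)).2 _ (a k) (q k) (sq k)
    haveI : IsAffine (F.obj k).left := hF k
    exact @QuasiCompact.compactSpace_of_compactSpace _ _ (q k).left h inferInstance
  haveI : ∀ k, QuasiSeparatedSpace ((PF ⋙ Over.forget S).obj k) := fun k => by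
    have h : Mono (q k).left := (repWith_mono_diagonal (hD k.left) (t k.left)).2 _ (a k) (q k) (sq k)
    haveI : IsAffine (F.obj k).left := hF k
    have h' : QuasiSeparated (q k).left := by haveI := h; infer_instance
    exact @quasiSeparatedSpace_of_quasiSeparated _ _ (q k).left inferInstance h'
  have hcl : ∀ {k j : Over i₁} (b : k ⟶ j),
      IsClosedImmersion (pullback.lift ((PF ⋙ Over.forget S).map b) (f.app k) (f.naturality b) :
        (PF ⋙ Over.forget S).obj k ⟶ pullback (f.app j) ((F ⋙ Over.forget S).map b)) := by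
    intro k j b
    obtain ⟨E, e₁, e₂, sE⟩ : ∃ (E : Over S) (e₁ : E ⟶ P j) (e₂ : E ⟶ F.obj k), IsPullback e₁ e₂ (q j) (F.map b) :=
      ⟨_, _, _, IsPullback.of_hasPullback (q j) (F.map b)⟩
    have sQ := IsPullback.of_hasPullback (pullback.diagonal (t j.left)) (R.map b.left)
    have hbig : IsPullback ((yon S).map e₁ ≫ a j) ((yon S).map e₂) (pullback.diagonal (t j.left))
        (θs k ≫ R.map b.left) := by
      rw [← hnat]
      exact (yon_isPullback sE).paste_horiz (sq j)
    let μ := sQ.lift ((yon S).map e₁ ≫ a j) ((yon S).map e₂ ≫ θs k) (by rw [Category.assoc]; exact hbig.w)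
    have hμ : IsPullback μ ((yon S).map e₂) (pullback.snd (pullback.diagonal (t j.left)) (R.map b.left)) (θs k) :=
      IsPullback.of_right (by rw [sQ.lift_fst]; exact hbig) (sQ.lift_snd _ _ _) sQ
    let ε := sE.lift (m b) (q k) (hm₂ b)
    let ψ := sQ.lift (D.map b.left) (pullback.diagonal (t k.left)) (hΔ b.left).symm
    have hψ : RepWith @IsClosedImmersion ψ :=
      repWith_lift_diagonal (ht b.left) (isSeparatedMor_of_isAffineMor (hD k.left) (hD j.left) (hDa _ _ b.left))
        sQ (sQ.lift_fst _ _ _) (sQ.lift_snd _ _ _)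
    have hε : IsPullback (a k) ((yon S).map ε) ψ μ := by
      refine IsPullback.of_bot ?_ ?_ hμ
      · rw [sQ.lift_snd, ← Functor.map_comp, sE.lift_snd]
        exact sq k
      · apply sQ.hom_ext
        · rw [Category.assoc, Category.assoc, sQ.lift_fst, sQ.lift_fst, ← Category.assoc, ← Functor.map_comp,
            sE.lift_fst, hm₁]
        · rw [Category.assoc, Category.assoc, sQ.lift_snd, sQ.lift_snd, ← Category.assoc, ← Functor.map_comp,
            sE.lift_snd]
          exact (sq k).w
    have hcε : IsClosedImmersion ε.left := hψ.2 μ (a k) ε hε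
    have he : (pullback.lift ((PF ⋙ Over.forget S).map b) (f.app k) (f.naturality b) :
        (P k).left ⟶ pullback (q j).left (F.map b).left) = ε.left ≫ (left_isPullback sE).isoPullback.hom := by
      apply pullback.hom_ext
      · rw [pullback.lift_fst, Category.assoc, IsPullback.isoPullback_hom_fst, ← Over.comp_left, sE.lift_fst]
        rfl
      · rw [pullback.lift_snd, Category.assoc, IsPullback.isoPullback_hom_snd, ← Over.comp_left, sE.lift_snd]
    show IsClosedImmersion (pullback.lift ((PF ⋙ Over.forget S).map b) (f.app k) (f.naturality b) :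
        (P k).left ⟶ pullback (q j).left (F.map b).left)
    rw [he]
    infer_instance
  haveI : ∀ {k j : Over i₁} (b : k ⟶ j), IsAffineHom ((PF ⋙ Over.forget S).map b) := fun {k j} b => by
    have h₁ := hcl b
    rw [← pullback.lift_fst ((PF ⋙ Over.forget S).map b) (f.app k) (f.naturality b)]
    have h₂ : IsAffineHom ((F ⋙ Over.forget S).map b) := inferInstance
    exact MorphismProperty.comp_mem @IsAffineHom.{u} _ _ (@IsFinite.toIsAffineHom _ _ _ (by infer_instance))
      (MorphismProperty.pullback_fst (P := @IsAffineHom.{u}) _ _ h₂)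
  obtain ⟨Q, e, a₀, sP⟩ := hX.1 θ
  have he : IsClosedImmersion e.left := hX.2 θ a₀ e sP
  have hwk : ∀ k : Over i₁, (a₀ ≫ c.π.app k.left) ≫ pullback.diagonal (t k.left) =
      (yon S).map (e ≫ cF.π.app k) ≫ θs k := fun k => by
    rw [Functor.map_comp, Category.assoc, Category.assoc, hcomp k, ← Category.assoc _ θ, ← sP.w, Category.assoc]
    congr 1
    apply pullback.hom_ext <;> simp [cR, pullbackMap_fst, pullbackMap_snd]
  let pk : ∀ k, Q ⟶ P k := fun k => (yon S).preimage ((sq k).lift _ _ (hwk k))
  have hP₁ : ∀ k, (yon S).map (pk k) ≫ a k = a₀ ≫ c.π.app k.left := fun k => by simp [pk]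
  have hP₂ : ∀ k, pk k ≫ q k = e ≫ cF.π.app k := fun k => (yon S).map_injective (by simp [pk])
  let cP : Cone PF :=
    { pt := Q
      π :=
        { app := pk
          naturality := fun k j b => (Category.id_comp _).trans ((yon S).map_injective ((sq j).hom_ext
            (by
              show _ = (yon S).map (pk k ≫ m b) ≫ a j
              rw [Functor.map_comp, Category.assoc, hm₁, ← Category.assoc, hP₁, hP₁, Category.assoc, c.w])
            (by
              show _ = (yon S).map (pk k ≫ m b) ≫ (yon S).map (q j)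
              rw [← Functor.map_comp, ← Functor.map_comp, Category.assoc, hm₂, ← Category.assoc, hP₂, hP₂,
                Category.assoc, cF.w]))) } }
  have hc' : IsLimit (c.whisker (Over.forget i₁)) := (Functor.Initial.isLimitWhiskerEquiv _ c).symm hc
  have hcR' : IsLimit (cR.whisker (Over.forget i₁)) := (Functor.Initial.isLimitWhiskerEquiv _ cR).symm hcR
  have hwP : ∀ s : Cone PF, hc'.lift
        { pt := (yon S).obj s.pt
          π :=
            { app := fun k => (yon S).map (s.π.app k) ≫ a k
              naturality := fun k j b => (Category.id_comp _).trans (by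
                rw [← s.w b, Functor.map_comp, Category.assoc]
                exact (congrArg _ (hm₁ b)).trans (Category.assoc _ _ _).symm) } } ≫ pullback.diagonal g =
      (yon S).map (hlimO.lift
        { pt := s.pt
          π :=
            { app := fun k => s.π.app k ≫ q k
              naturality := fun k j b => (Category.id_comp _).trans (by
                rw [← s.w b, Category.assoc]
                exact (congrArg _ (hm₂ b)).trans (Category.assoc _ _ _).symm) } }) ≫ θ := fun s => by
    refine hcR'.hom_ext fun k => ?_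
    show (_ ≫ pullback.diagonal g) ≫ cR.π.app k.left = (_ ≫ θ) ≫ cR.π.app k.left
    rw [Category.assoc, Category.assoc, ← hcomp k, ← Category.assoc ((yon S).map _), ← Functor.map_comp,
      hlimO.fac]
    have e' : pullback.diagonal g ≫ cR.π.app k.left = c.π.app k.left ≫ pullback.diagonal (t k.left) := by
      apply pullback.hom_ext <;> simp [cR, pullbackMap_fst, pullbackMap_snd]
    rw [e', ← Category.assoc]
    refine (congrArg (· ≫ pullback.diagonal (t k.left)) (hc'.fac _ k)).trans ?_
    show ((yon S).map (s.π.app k) ≫ a k) ≫ _ = (yon S).map (s.π.app k ≫ q k) ≫ θs k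
    rw [Functor.map_comp, Category.assoc, Category.assoc, (sq k).w]
  have hcP : IsLimit cP :=
    { lift := fun s => (yon S).preimage (sP.lift _ _ (hwP s))
      fac := fun s k => (yon S).map_injective ((sq k).hom_ext
        (by
          rw [Functor.map_comp, Category.assoc, show (yon S).map (cP.π.app k) ≫ a k = _ from hP₁ k, ← Category.assoc, Functor.map_preimage, sP.lift_fst]
          exact hc'.fac _ k)
        (by
          rw [Functor.map_comp, Category.assoc, ← Functor.map_comp (yon S) (cP.π.app k), show cP.π.app k ≫ q k = _ from hP₂ k, Functor.map_comp,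
            ← Category.assoc, Functor.map_preimage, sP.lift_snd, ← Functor.map_comp, hlimO.fac, Functor.map_comp]))
      uniq := fun s l hl => (yon S).map_injective (sP.hom_ext
        (by
          rw [Functor.map_preimage, sP.lift_fst]
          refine hc'.hom_ext fun k => ?_
          rw [hc'.fac]
          show ((yon S).map l ≫ a₀) ≫ c.π.app k.left = (yon S).map (s.π.app k) ≫ a k
          rw [Category.assoc, ← hP₁, ← Category.assoc, ← Functor.map_comp, hl k])
        (by
          rw [Functor.map_preimage, sP.lift_snd, ← Functor.map_comp]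
          refine congrArg _ (hlimO.hom_ext fun k => ?_)
          rw [hlimO.fac, Category.assoc, ← hP₂, ← Category.assoc, hl k])) }
  obtain ⟨j, hj⟩ := @exists_stage_isClosedImmersion_system _ _ _ (PF ⋙ Over.forget S) (F ⋙ Over.forget S) _ _ _ _ f _ _
    (isLimitOfPreserves (Over.forget S) hcP) hlim e.left he
    (fun k => congrArg (fun h => Over.Hom.left h) (hP₂ k).symm) o
    (show LocallyOfFiniteType (q o).left from
      ((repWith_lft_lqf_diagonal (hD i₁) hY (t i₁)).2 (θs o) (a o) (q o) (sq o)).2)
    hcl
  refine ⟨j.left, fun i φ => ?_⟩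
  let k : Over i₁ := Over.mk (φ ≫ j.hom)
  have hk : IsClosedImmersion (q k).left := hj k (Over.homMk φ)
  have := Groth.Agent.FpqcDescent.isClosedImmersion_descendsAlong.{u}
  exact repWith_of_chart_isPullback (hR i) (representable_diagonal (hD i) (t i))
    (repWith_baseChange (hθs k) hv) (repWith_baseChange (hθs k) hvs) (sq k) hk

end Groth.Agent.AlgSpLimDesc
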